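import Groth.Agent.H20Prop.Main

/-!
The points with finite stabiliser form an invariant open set.
-/

set_option autoImplicit false
set_option linter.style.haveILetI false
set_option backward.isDefEq.respectTransparency false

universe u

open CategoryTheory CategoryTheory.Limits MonoidalCategory CartesianMonoidalCategory MonObj GrpObj AlgebraicGeometry
  TopologicalSpace

namespace Groth.Agent.H20Prop

noncomputable section

variable {k : Type u} [Field k] {G X : Over (Spec (CommRingCat.of k))} [GrpObj G] (a : AlgGrp.Action G X)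
  [LocallyOfFiniteType G.hom] [QuasiCompact G.hom] [LocallyOfFiniteType X.hom] [QuasiSeparated X.hom]

instance locallyOfFiniteType_stabTo {T : Over (Spec (CommRingCat.of k))} (f : T ⟶ X) :
    LocallyOfFiniteType (GLinSh.stabTo a f) := by
  haveI : LocallyOfFiniteType (snd G T).left := inferInstanceAs (LocallyOfFiniteType (pullback.snd G.hom T.hom))
  haveI : LocallyOfFiniteType ((GIT.psi a f).left ≫ (snd X T).left) := by
    rw [← Over.comp_left, H20GIT.psi_snd]
    infer_instance
  haveI : LocallyOfFiniteType (GIT.psi a f).left := locallyOfFiniteType_of_comp _ (snd X T).left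
  exact MorphismProperty.pullback_snd (P := @LocallyOfFiniteType) _ _ inferInstance

instance quasiCompact_stabTo {T : Over (Spec (CommRingCat.of k))} (f : T ⟶ X) :
    QuasiCompact (GLinSh.stabTo a f) := by
  haveI : QuasiCompact (snd G T).left := inferInstanceAs (QuasiCompact (pullback.snd G.hom T.hom))
  haveI : QuasiSeparated (snd X T).left := inferInstanceAs (QuasiSeparated (pullback.snd X.hom T.hom))
  haveI : QuasiCompact ((GIT.psi a f).left ≫ (snd X T).left) := by
    rw [← Over.comp_left, H20GIT.psi_snd]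
    infer_instance
  haveI : QuasiCompact (GIT.psi a f).left := QuasiCompact.of_comp _ (snd X T).left
  exact MorphismProperty.pullback_snd (P := @QuasiCompact) _ _ inferInstance

/-- The unit section of the stabiliser. -/
def stabUnit : X.left ⟶ GLinSh.stab a (𝟙 X) :=
  pullback.lift (lift (1 : X ⟶ G) (𝟙 X)).left (𝟙 _) (by
    rw [← Over.comp_left, show lift (1 : X ⟶ G) (𝟙 X) ≫ GIT.psi a (𝟙 X) = lift (𝟙 X) (𝟙 X) from ?_,
      Category.id_comp]
    rw [lift_psi, tgtMove_one, Category.comp_id])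

theorem stabUnit_to : stabUnit a ≫ GLinSh.stabTo a (𝟙 X) = 𝟙 _ := pullback.lift_snd _ _ _

/-- The locus of points with finite stabiliser. -/
def finStabLocus : X.left.Opens := stabUnit a ⁻¹ᵁ (GLinSh.stabTo a (𝟙 X)).quasiFiniteLocus

theorem quasiFiniteLocus_lqf {P Q : Scheme.{u}} (f : P ⟶ Q) [LocallyOfFiniteType f] :
    LocallyQuasiFinite (f.quasiFiniteLocus.ι ≫ f) := inferInstance

theorem quasiFiniteAt_of_pullback {P Q P' Q' W W' : Scheme.{u}} {f' : P' ⟶ Q'} {i' : W' ⟶ P'} [IsOpenImmersion i']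
    {f : P ⟶ Q} (g : Q' ⟶ Q) (i : W ⟶ P) (m : W' ⟶ W) (h : IsPullback m (i' ≫ f') (i ≫ f) g)
    (hl : LocallyQuasiFinite (i ≫ f)) (p : W') : f'.QuasiFiniteAt (i' p) := by
  haveI : LocallyQuasiFinite (i' ≫ f') := MorphismProperty.of_isPullback (P := @LocallyQuasiFinite) h hl
  exact Scheme.Hom.quasiFiniteAt_comp_iff_of_isOpenImmersion.1 ((i' ≫ f').quasiFiniteAt p)

variable {T : Over (Spec (CommRingCat.of k))} {Ω : Type u} [Field Ω]

theorem subsingleton_of_iso (e : T.left ≅ Spec (CommRingCat.of Ω)) : Subsingleton T.left :=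
  ⟨fun x y => e.hom.isOpenEmbedding.injective (Subsingleton.elim _ _)⟩

theorem mem_finStabLocus_of_finite (e : T.left ≅ Spec (CommRingCat.of Ω)) (f : T ⟶ X) (hfin : Finite (GLinSh.stab a f))
    (t : T.left) : f.left t ∈ finStabLocus a := by
  haveI := subsingleton_of_iso e
  obtain ⟨m, hm⟩ := H20GIT.exists_isPullback_stab a f
  let π := GLinSh.stabTo a (𝟙 X)
  have hπ : ∀ y, π (stabUnit a y) = y := fun y => by
    rw [← Scheme.Hom.comp_apply, stabUnit_to]
    rfl
  show π.QuasiFiniteAt (stabUnit a (f.left t))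
  have hf : (π ⁻¹' {π (stabUnit a (f.left t))}).Finite := by
    refine (Set.finite_range m).subset fun z hz => ?_
    obtain ⟨w, hw, -⟩ := Scheme.exists_preimage_of_isPullback hm z t (by rw [show π z = _ from hz, hπ])
    exact ⟨w, hw⟩
  haveI : Finite (π.fiber (π (stabUnit a (f.left t)))) := (π.fiberHomeo _).finite_iff.mpr hf.to_subtype
  haveI : LocallyOfFiniteType (π.fiberToSpecResidueField (π (stabUnit a (f.left t)))) :=
    MorphismProperty.pullback_snd (P := @LocallyOfFiniteType) _ _ inferInstance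
  haveI : JacobsonSpace (π.fiber (π (stabUnit a (f.left t)))) :=
    LocallyOfFiniteType.jacobsonSpace (π.fiberToSpecResidueField _)
  exact Scheme.Hom.quasiFiniteAt_iff_isOpen_singleton_asFiber.mpr (isOpen_discrete _)

/-- Translation of the stabiliser by a point of it. -/
theorem exists_translation (f : T ⟶ X) (g : T ⟶ G) (hg : lift g f ≫ a.act = f) :
    ∃ τ : GLinSh.stab a f ⟶ GLinSh.stab a f, IsOpenImmersion τ ∧ τ ≫ GLinSh.stabTo a f = GLinSh.stabTo a f ∧
      τ ≫ pullback.fst _ _ = pullback.fst (GIT.psi a f).left (lift f (𝟙 T)).left ≫ (srcMove g).left := by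
  have hM : lift f (𝟙 T) ≫ tgtMove a g = lift f (𝟙 T) := by
    apply CartesianMonoidalCategory.hom_ext
    · simp only [tgtMove, Category.assoc, lift_fst, comp_lift_assoc, lift_snd_assoc, Category.id_comp, hg]
    · simp [tgtMove]
  have e1 : (GIT.psi a f).left ≫ (tgtMove a g).left = (srcMove g).left ≫ (GIT.psi a f).left := by
    rw [← Over.comp_left, ← Over.comp_left, psi_tgtMove]
  have e2 : (lift f (𝟙 T)).left ≫ (tgtMove a g).left = 𝟙 _ ≫ (lift f (𝟙 T)).left := by
    rw [← Over.comp_left, hM, Category.id_comp]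
  haveI : IsOpenImmersion (srcMove g).left := IsOpenImmersion.of_isIso _
  haveI : IsOpenImmersion (𝟙 T.left) := IsOpenImmersion.of_isIso _
  haveI : Mono (tgtMove a g).left := IsIso.mono_of_iso _
  let τ : GLinSh.stab a f ⟶ GLinSh.stab a f := pullback.map (GIT.psi a f).left (lift f (𝟙 T)).left (GIT.psi a f).left
    (lift f (𝟙 T)).left (srcMove g).left (𝟙 _) (tgtMove a g).left e1 e2
  refine ⟨τ, Scheme.pullback_map_isOpenImmersion _ _ _ _ _ _ _ e1 e2, ?_, ?_⟩
  · exact (pullback.lift_snd _ _ _).trans (Category.comp_id _)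
  · exact pullback.lift_fst _ _ _

theorem finite_of_mem_finStabLocus [IsAlgClosed Ω] (e : T.left ≅ Spec (CommRingCat.of Ω)) (f : T ⟶ X) {t : T.left}
    (ht : f.left t ∈ finStabLocus a) : Finite (GLinSh.stab a f) ∧ IsFinite (GLinSh.stabTo a f) := by
  haveI := subsingleton_of_iso e
  obtain ⟨m, hm⟩ := H20GIT.exists_isPullback_stab a f
  let π := GLinSh.stabTo a f
  let O := (GLinSh.stabTo a (𝟙 X)).quasiFiniteLocus
  have hO : ∀ p : GLinSh.stab a f, m p ∈ O → π.QuasiFiniteAt p := by
    intro p hp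
    have hsq : IsPullback (m ∣_ O) ((m ⁻¹ᵁ O).ι ≫ π) (O.ι ≫ GLinSh.stabTo a (𝟙 X)) f.left :=
      IsPullback.paste_vert (isPullback_morphismRestrict m O) hm
    exact quasiFiniteAt_of_pullback _ O.ι _ hsq (quasiFiniteLocus_lqf (GLinSh.stabTo a (𝟙 X))) ⟨p, hp⟩
  haveI : JacobsonSpace (GLinSh.stab a f) := LocallyOfFiniteType.jacobsonSpace (π ≫ e.hom)
  obtain ⟨p₀, hp₀⟩ : (m ⁻¹' (O : Set _)).Nonempty := by
    obtain ⟨w, hw, -⟩ := Scheme.exists_preimage_of_isPullback hm (stabUnit a (f.left t)) t (by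
      rw [← Scheme.Hom.comp_apply, stabUnit_to]
      rfl)
    exact ⟨w, show m w ∈ O from hw ▸ ht⟩
  obtain ⟨p, hp, hpc⟩ := nonempty_inter_closedPoints (Z := m ⁻¹' (O : Set _)) ⟨p₀, hp₀⟩
    (O.isOpen.preimage m.continuous).isLocallyClosed
  let P : Over (Spec (CommRingCat.of k)) := Over.mk (π ≫ T.hom)
  let πo : P ⟶ T := Over.homMk π rfl
  let i : P ⟶ G ⊗ T := Over.homMk (pullback.fst (GIT.psi a f).left (lift f (𝟙 T)).left) (by
    rw [← Over.w (snd G T)]
    show _ = π ≫ T.hom
    rw [← Category.assoc, H20GIT.fst_snd_eq])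
  haveI : LocallyOfFiniteType πo.left := inferInstanceAs (LocallyOfFiniteType π)
  have hsec : ∀ {q : GLinSh.stab a f}, IsClosed {q} → ∃ s : T ⟶ P, s ≫ πo = 𝟙 T ∧ (∀ u, s.left u = q) ∧
      lift (s ≫ i ≫ fst G T) f ≫ a.act = f ∧ s ≫ i = lift (s ≫ i ≫ fst G T) (𝟙 T) := by
    intro q hq
    obtain ⟨s, hs, hsq⟩ := exists_section (P := P) e πo hq
    have h1 : i ≫ snd G T = πo := Over.OverMorphism.ext (H20GIT.fst_snd_eq a f)
    have h2 : s ≫ i = lift (s ≫ i ≫ fst G T) (𝟙 T) := by
      apply CartesianMonoidalCategory.hom_ext <;> simp [h1, hs]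
    have h3 : (s ≫ i) ≫ GIT.psi a f = lift f (𝟙 T) := by
      have h4 : i ≫ GIT.psi a f = πo ≫ lift f (𝟙 T) := Over.OverMorphism.ext pullback.condition
      rw [Category.assoc, h4, ← Category.assoc, hs, Category.id_comp]
    rw [h2, lift_psi] at h3
    have h5 := congrArg (· ≫ fst X T) h3
    simp only [tgtMove, Category.assoc, lift_fst, comp_lift_assoc, lift_snd_assoc, Category.id_comp] at h5
    exact ⟨s, hs, hsq, h5, h2⟩
  have hclosed : ∀ q : GLinSh.stab a f, IsClosed {q} → π.QuasiFiniteAt q := by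
    intro q hq
    obtain ⟨s, hs, hsp, hgp, hsi⟩ := hsec hpc
    obtain ⟨s', hs', hsq, hgq, hsi'⟩ := hsec hq
    let gp := s ≫ i ≫ fst G T
    let gq := s' ≫ i ≫ fst G T
    have hg : lift (gp * gq⁻¹) f ≫ a.act = f := by
      have : lift gq⁻¹ f ≫ a.act = f := by
        conv_lhs => rw [← hgq, ← H20GIT.act_mul, inv_mul_cancel, H20GIT.act_one]
      rw [H20GIT.act_mul, this]
      exact hgp
    obtain ⟨τ, hτ, hτπ, hτi⟩ := exists_translation a f (gp * gq⁻¹) hg
    haveI := hτ
    have hτq : τ q = p := by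
      have e3 : (s' ≫ i) ≫ srcMove (gp * gq⁻¹) = s ≫ i := by
        rw [hsi, hsi']
        apply CartesianMonoidalCategory.hom_ext
        · simp only [srcMove, Category.assoc, lift_fst, MonObj.comp_mul, lift_snd_assoc, Category.id_comp]
          rw [inv_mul_cancel_right]
        · simp [srcMove]
      have e4 : s'.left ≫ τ = s.left := by
        apply pullback.hom_ext
        · rw [Category.assoc, hτi]
          exact congrArg (fun r : T ⟶ G ⊗ T => r.left) e3
        · refine (Category.assoc _ _ _).trans ?_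
          refine (congrArg (fun r => s'.left ≫ r) hτπ).trans ?_
          exact (congrArg (fun r : T ⟶ T => r.left) hs').trans (congrArg (fun r : T ⟶ T => r.left) hs).symm
      have e5 := congrArg (fun r : T.left ⟶ GLinSh.stab a f => r t) e4
      rw [← hsq t, ← hsp t]
      exact e5
    show (GLinSh.stabTo a f).QuasiFiniteAt q
    rw [← hτπ]
    refine Scheme.Hom.quasiFiniteAt_comp_iff_of_isOpenImmersion.2 ?_
    rw [hτq]
    exact hO p hp
  haveI : LocallyQuasiFinite π := by
    rw [← Scheme.Hom.quasiFiniteLocus_eq_top_iff]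
    refine top_le_iff.1 fun q _ => ?_
    by_contra hq
    obtain ⟨c, hc, hcc⟩ := nonempty_inter_closedPoints (Z := (π.quasiFiniteLocus : Set (GLinSh.stab a f))ᶜ) ⟨q, hq⟩
      π.quasiFiniteLocus.isOpen.isClosed_compl.isLocallyClosed
    exact hc (hclosed c hcc)
  refine ⟨Set.finite_univ_iff.1 ((π.finite_preimage_singleton t).subset fun x _ => Subsingleton.elim _ t), ?_⟩
  haveI : IsFinite (π ≫ e.hom) := IsFinite.of_locallyQuasiFinite _
  exact (MorphismProperty.cancel_right_of_respectsIso @IsFinite π e.hom).1 inferInstance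

theorem finite_fibre_iff (f : T ⟶ X) :
    Finite (GLinSh.stab a f) ↔ ((GIT.psi a f).left ⁻¹' Set.range (lift f (𝟙 T)).left).Finite := by
  haveI : Mono (lift f (𝟙 T)).left := by
    refine SplitMono.mono ⟨(snd X T).left, ?_⟩
    rw [← Over.comp_left, lift_snd, Over.id_left]
  haveI : IsPreimmersion (lift f (𝟙 T)).left := by
    haveI : IsImmersion ((lift f (𝟙 T)).left ≫ (snd X T).left) := by
      rw [← Over.comp_left, lift_snd]
      exact inferInstanceAs (IsImmersion (𝟙 T.left))
    haveI := IsImmersion.of_comp (lift f (𝟙 T)).left (snd X T).left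
    infer_instance
  rw [← Scheme.Pullback.range_fst (GIT.psi a f).left (lift f (𝟙 T)).left]
  exact ⟨fun h => @Set.finite_range _ _ _ h, fun h => Finite.of_finite_univ ((h.preimage
    (pullback.fst (GIT.psi a f).left (lift f (𝟙 T)).left).isEmbedding.injective.injOn).subset fun x _ => ⟨x, rfl⟩)⟩

/-- The orbit map of a translated point. -/
theorem finite_fibre_move (f : T ⟶ X) (g : T ⟶ G)
    (h : ((GIT.psi a f).left ⁻¹' Set.range (lift f (𝟙 T)).left).Finite) :
    ((GIT.psi a (lift g f ≫ a.act)).left ⁻¹' Set.range (lift (lift g f ≫ a.act) (𝟙 T)).left).Finite := by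
  let R : G ⊗ T ⟶ G ⊗ T := lift (fst G T * (snd G T ≫ g)) (snd G T)
  let R' : G ⊗ T ⟶ G ⊗ T := lift (fst G T * (snd G T ≫ g⁻¹)) (snd G T)
  have hR : R ≫ R' = 𝟙 _ := by
    apply CartesianMonoidalCategory.hom_ext
    · simp only [R, R', Category.assoc, lift_fst, MonObj.comp_mul, lift_snd_assoc, Category.id_comp]
      rw [_root_.mul_assoc, ← MonObj.comp_mul, mul_inv_cancel, MonObj.comp_one, _root_.mul_one]
    · simp [R, R']
  have e1 : GIT.psi a (lift g f ≫ a.act) = R ≫ GIT.psi a f := by
    apply CartesianMonoidalCategory.hom_ext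
    · simp only [GIT.psi, R, Category.assoc, lift_fst, lift_whiskerLeft_assoc]
      rw [H20GIT.act_mul, show G ◁ (lift g f ≫ a.act) = lift (fst G T) (snd G T ≫ lift g f ≫ a.act) from by
        apply CartesianMonoidalCategory.hom_ext <;> simp, comp_lift_assoc]
    · simp [GIT.psi, R]
  have e2 : lift (lift g f ≫ a.act) (𝟙 T) = lift f (𝟙 T) ≫ tgtMove a g := by
    apply CartesianMonoidalCategory.hom_ext
    · simp only [tgtMove, Category.assoc, lift_fst, comp_lift_assoc, lift_snd_assoc, Category.id_comp]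
    · simp [tgtMove]
  have hinj : Function.Injective R.left := Function.LeftInverse.injective (g := R'.left) fun z => by
    rw [← Scheme.Hom.comp_apply, ← Over.comp_left, hR]
    rfl
  refine Set.Finite.of_finite_image ((h.image (srcMove g).left).subset ?_) hinj.injOn
  rintro _ ⟨z, ⟨u, hu⟩, rfl⟩
  rw [e1, e2, Over.comp_left, Over.comp_left, Scheme.Hom.comp_apply, Scheme.Hom.comp_apply] at hu
  obtain ⟨y, hy⟩ := (srcMove g).left.surjective (R.left z)
  refine ⟨y, ⟨u, (tgtMove a g).left.isOpenEmbedding.injective ?_⟩, hy⟩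
  rw [hu, ← hy, ← Scheme.Hom.comp_apply, ← Scheme.Hom.comp_apply, ← Over.comp_left, ← Over.comp_left, psi_tgtMove]

theorem mem_finStabLocus_of_spec {K : Type u} [Field K] [IsAlgClosed K] (p : Spec (CommRingCat.of K) ⟶ X.left) (x : X.left)
    (hx : ∀ t, p t = x)
    (h : ∀ (Ω : Type u) [Field Ω] [IsAlgClosed Ω] (T : Over (Spec (CommRingCat.of k)))
      (_ : T.left ≅ Spec (CommRingCat.of Ω)) (f : T ⟶ X), Set.range f.left = {x} → IsFinite (GLinSh.stabTo a f)) :
    x ∈ finStabLocus a := by
  let T : Over (Spec (CommRingCat.of k)) := Over.mk (p ≫ X.hom)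
  let f : T ⟶ X := Over.homMk p rfl
  let e : T.left ≅ Spec (CommRingCat.of K) := Iso.refl _
  let t : T.left := e.inv (IsLocalRing.closedPoint K)
  haveI := subsingleton_of_iso e
  have hf : ∀ u, f.left u = x := hx
  haveI : IsFinite (GLinSh.stabTo a f) :=
    h K T e f (Set.Subset.antisymm (by rintro _ ⟨u, rfl⟩; exact hf u) fun y hy => ⟨t, (hf t).trans hy.symm⟩)
  have hfin : Finite (GLinSh.stab a f) := Set.finite_univ_iff.1
    (((GLinSh.stabTo a f).finite_preimage_singleton t).subset fun z _ => Subsingleton.elim _ t)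
  exact hf t ▸ mem_finStabLocus_of_finite a e f hfin t

theorem mem_finStabLocus_of_residue {x : X.left} {K : Type u} [Field K] [IsAlgClosed K]
    (φ : X.left.residueField x ⟶ CommRingCat.of K)
    (h : ∀ (Ω : Type u) [Field Ω] [IsAlgClosed Ω] (T : Over (Spec (CommRingCat.of k)))
      (_ : T.left ≅ Spec (CommRingCat.of Ω)) (f : T ⟶ X), Set.range f.left = {x} → IsFinite (GLinSh.stabTo a f)) :
    x ∈ finStabLocus a :=
  mem_finStabLocus_of_spec a (Spec.map φ ≫ X.left.fromSpecResidueField x) x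
    (fun t => by rw [Scheme.Hom.comp_apply]; exact Scheme.fromSpecResidueField_apply x _) h

theorem exists_algClosed_extension (F : Type u) [Field F] :
    ∃ (K : Type u) (_ : Field K) (_ : IsAlgClosed K), Nonempty (F →+* K) :=
  ⟨AlgebraicClosure F, inferInstance, inferInstance, ⟨algebraMap F (AlgebraicClosure F)⟩⟩

theorem mem_finStabLocus_of_forall (x : X.left)
    (h : ∀ (Ω : Type u) [Field Ω] [IsAlgClosed Ω] (T : Over (Spec (CommRingCat.of k)))
      (_ : T.left ≅ Spec (CommRingCat.of Ω)) (f : T ⟶ X), Set.range f.left = {x} → IsFinite (GLinSh.stabTo a f)) :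
    x ∈ finStabLocus a := by
  obtain ⟨K, _, _, ⟨φ⟩⟩ := exists_algClosed_extension (X.left.residueField x)
  exact mem_finStabLocus_of_residue a (CommRingCat.ofHom φ) h

/-- The finite stabiliser locus is invariant. -/
theorem preimage_finStabLocus : a.act.left ⁻¹ᵁ finStabLocus a = (snd G X).left ⁻¹ᵁ finStabLocus a := by
  ext w
  let c : CommRingCat.of ((G ⊗ X).left.residueField w) ⟶ CommRingCat.of (AlgebraicClosure ((G ⊗ X).left.residueField w)) :=
    CommRingCat.ofHom (algebraMap _ _)
  let p := Spec.map c ≫ (G ⊗ X).left.fromSpecResidueField w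
  let T : Over (Spec (CommRingCat.of k)) := Over.mk (p ≫ (G ⊗ X).hom)
  let P : T ⟶ G ⊗ X := Over.homMk p rfl
  let u : T.left := IsLocalRing.closedPoint (AlgebraicClosure ((G ⊗ X).left.residueField w))
  have hu : P.left u = w := by
    show ((G ⊗ X).left.fromSpecResidueField w) (Spec.map c u) = w
    exact Scheme.fromSpecResidueField_apply _ _
  let e : T.left ≅ Spec (CommRingCat.of (AlgebraicClosure ((G ⊗ X).left.residueField w))) := Iso.refl _
  have key : ∀ (g : T ⟶ G) (f : T ⟶ X), f.left u ∈ finStabLocus a → (lift g f ≫ a.act).left u ∈ finStabLocus a :=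
    fun g f hf => mem_finStabLocus_of_finite a e _ ((finite_fibre_iff a _).2
      (finite_fibre_move a f g ((finite_fibre_iff a f).1 (finite_of_mem_finStabLocus a e f hf).1))) u
  have h1 : P = lift (P ≫ fst G X) (P ≫ snd G X) := by
    apply CartesianMonoidalCategory.hom_ext <;> simp
  have hw : a.act.left w = (lift (P ≫ fst G X) (P ≫ snd G X) ≫ a.act).left u := by
    rw [← h1, Over.comp_left, Scheme.Hom.comp_apply, hu]
  have hw' : (snd G X).left w = (P ≫ snd G X).left u := by
    rw [Over.comp_left, Scheme.Hom.comp_apply, hu]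
  show a.act.left w ∈ finStabLocus a ↔ (snd G X).left w ∈ finStabLocus a
  rw [hw, hw']
  refine ⟨fun h => ?_, key _ _⟩
  have := key (P ≫ fst G X)⁻¹ _ h
  rwa [← H20GIT.act_mul, inv_mul_cancel, H20GIT.act_one] at this

end

end Groth.Agent.H20Prop
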