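import Groth.Agent.H20Prop.Local
import Groth.Agent.H20Prop.StabLocus
import Groth.Agent.H20GQ.Restrict

/-!
The properly stable locus: openness and properness of the action on it.
-/

set_option autoImplicit false
set_option linter.style.haveILetI false
set_option linter.unusedSectionVars false
set_option backward.isDefEq.respectTransparency false

universe u

open CategoryTheory CategoryTheory.Limits MonoidalCategory CartesianMonoidalCategory MonObj GrpObj AlgebraicGeometry
  TopologicalSpace Topology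
open Groth.Agent.H20GQ (resObj resIncl resHom)

namespace Groth.Agent.H20Prop

noncomputable section

variable {k : Type u} [Field k] {G X : Over (Spec (CommRingCat.of k))} [GrpObj G] {a : AlgGrp.Action G X}
  (B : GLinSh.LinBun G a) [LocallyOfFiniteType G.hom] [QuasiCompact G.hom] [LocallyOfFiniteType X.hom]
  [QuasiSeparated X.hom]

/-- The properly stable open. -/
def psOpen : X.left.Opens := (⨆ j : H20SS.StAdm B, H20SS.nvOpen B.π j.1.sec) ⊓ finStabLocus a

theorem mem_psOpen_iff (x : X.left) :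
    x ∈ psOpen B ↔ x ∈ (⨆ j : H20SS.StAdm B, H20SS.nvOpen B.π j.1.sec : X.left.Opens) ∧ x ∈ finStabLocus a := Iff.rfl

theorem isStablePt_iff (x : X.left) :
    B.IsStablePt x ↔ x ∈ (⨆ j : H20SS.StAdm B, H20SS.nvOpen B.π j.1.sec : X.left.Opens) := by
  have h := Set.ext_iff.1 (H20SS.coe_sLocus B) x
  exact h

theorem finite_stab_of_mem {x : X.left} (hxF : x ∈ finStabLocus a) (Ω : Type u) [Field Ω] [IsAlgClosed Ω]
    (T : Over (Spec (CommRingCat.of k))) (e : T.left ≅ Spec (CommRingCat.of Ω)) (f : T ⟶ X)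
    (hf : Set.range f.left = {x}) : IsFinite (GLinSh.stabTo a f) := by
  have ht : f.left (e.inv (IsLocalRing.closedPoint Ω)) = x := hf.le (Set.mem_range_self _)
  rw [← ht] at hxF
  exact (finite_of_mem_finStabLocus a e f hxF).2

theorem coe_psOpen : (psOpen B : Set X.left) = B.psLocus := by
  refine Set.ext fun x => ?_
  rw [SetLike.mem_coe, mem_psOpen_iff, ← isStablePt_iff]
  constructor
  · intro hx
    exact And.intro hx.1 (finite_stab_of_mem hx.2)
  · intro hx
    exact And.intro hx.1 (mem_finStabLocus_of_forall a x hx.2)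

/-- The properly stable open inside the semistable one. -/
def psPre : (resObj X (H20SS.ssOpen B)).left.Opens := (H20SS.ssOpen B).ι ⁻¹ᵁ psOpen B

theorem psOpen_le : psOpen B ≤ H20SS.ssOpen B :=
  le_trans (a := psOpen B) (b := ⨆ j : H20SS.StAdm B, H20SS.nvOpen B.π j.1.sec) inf_le_left
    (iSup_le fun j => le_iSup (fun i : H20SS.Adm B => H20SS.nvOpen B.π i.sec) j.1)

theorem preimage_psOpen : a.act.left ⁻¹ᵁ psOpen B = (snd G X).left ⁻¹ᵁ psOpen B := by
  rw [psOpen, Scheme.Hom.preimage_inf, Scheme.Hom.preimage_inf, preimage_finStabLocus, Scheme.Hom.preimage_iSup,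
    Scheme.Hom.preimage_iSup, iSup_congr fun j : H20SS.StAdm B => H20SS.preimage_nvOpen j.1.inv]

theorem preimage_ssOpen : a.act.left ⁻¹ᵁ H20SS.ssOpen B = (snd G X).left ⁻¹ᵁ H20SS.ssOpen B := by
  rw [Scheme.Hom.preimage_iSup, Scheme.Hom.preimage_iSup]
  exact iSup_congr fun j => H20SS.preimage_nvOpen j.inv

variable [CharZero k] (hG : Red.IsReductive G) [CompactSpace X.left] [QuasiSeparatedSpace X.left]
  (aU : AlgGrp.Action G (resObj X (H20SS.ssOpen B)))
  (haU : aU.act ≫ resIncl X (H20SS.ssOpen B) = (G ◁ resIncl X _) ≫ a.act)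

include hG haU in
theorem preimage_image_psOpen :
    (H20SS.quotMap B).left ⁻¹' ((H20SS.quotMap B).left '' (psPre B : Set (resObj X (H20SS.ssOpen B)).left)) =
      (psPre B : Set (resObj X (H20SS.ssOpen B)).left) := by
  refine Set.Subset.antisymm (fun x hx => ?_) (Set.subset_preimage_image _ _)
  obtain ⟨u, hu, hux⟩ := hx
  obtain ⟨z, hz₁, hz₂⟩ :=
    Scheme.Pullback.exists_preimage_pullback (f := (H20SS.quotMap B).left) (g := (H20SS.quotMap B).left) x u hux.symm
  have hst : (H20SS.quotMap B).left u ∈ H20SS.stOpen B := by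
    show u ∈ (H20SS.quotMap B).left ⁻¹ᵁ H20SS.stOpen B
    rw [H20SS.quotMap_preimage_stOpen B]
    exact hu.1
  obtain ⟨w, hw⟩ := H20SS.mem_range_psiY_of_stable B hG aU haU (H20SS.isInvariant_quotMap B hG aU haU) z
    (by rw [hz₁, ← hux]; exact hst)
  have hx' : aU.act.left w = x := by
    rw [← hz₁, ← hw, ← Scheme.Hom.comp_apply, GIT.PsiY, Limits.pullback.lift_fst]
  have hu' : (snd G (resObj X (H20SS.ssOpen B))).left w = u := by
    rw [← hz₂, ← hw, ← Scheme.Hom.comp_apply, GIT.PsiY, Limits.pullback.lift_snd]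
  show (resIncl X (H20SS.ssOpen B)).left x ∈ psOpen B
  rw [← hx', ← Scheme.Hom.comp_apply, ← Over.comp_left, haU, Over.comp_left, Scheme.Hom.comp_apply]
  refine (preimage_psOpen B).ge
    (show (snd G X).left ((G ◁ resIncl X (H20SS.ssOpen B)).left w) ∈ psOpen B from ?_)
  rw [← Scheme.Hom.comp_apply, ← Over.comp_left, whiskerLeft_snd, Over.comp_left, Scheme.Hom.comp_apply, hu']
  exact hu

include hG haU in
theorem isOpen_image_psOpen :
    IsOpen ((H20SS.quotMap B).left '' (psPre B : Set (resObj X (H20SS.ssOpen B)).left)) := by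
  have hsub : IsQuotientMap (H20SS.quotMap B).left.base :=
    MorphismProperty.universally_le _ _ (H20SS.isUnivSubmersive_quotMap B hG aU haU)
  rw [← hsub.isOpen_preimage]
  exact (preimage_image_psOpen B hG aU haU).symm ▸ (psPre B).isOpen

/-- The map of the properly stable open into the semistable one. -/
def psIncl : resObj X (psOpen B) ⟶ resObj X (H20SS.ssOpen B) :=
  Over.homMk (X.left.homOfLE (psOpen_le B)) (Scheme.homOfLE_ι_assoc _ (psOpen_le B) _)

theorem psIncl_comp : psIncl B ≫ resIncl X (H20SS.ssOpen B) = resIncl X (psOpen B) :=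
  Over.OverMorphism.ext (Scheme.homOfLE_ι _ (psOpen_le B))

theorem ι_psIncl (x : (resObj X (psOpen B)).left) :
    (H20SS.ssOpen B).ι ((psIncl B).left x) = (psOpen B).ι x :=
  congrArg (fun m : resObj X (psOpen B) ⟶ X => m.left x) (psIncl_comp B)

include hG haU in
theorem isFinite_psi_chart (aP : AlgGrp.Action G (resObj X (psOpen B)))
    (haP : aP.act ≫ resIncl X (psOpen B) = (G ◁ resIncl X (psOpen B)) ≫ a.act)
    (hiP : GIT.IsInvariant aP (psIncl B ≫ H20SS.quotMap B)) (V : (H20SS.quotObj B).left.Opens) (hV : IsAffineOpen V)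
    (hVU : (H20SS.quotMap B).left ⁻¹ᵁ V ≤ (H20SS.ssOpen B).ι ⁻¹ᵁ psOpen B) (j : H20SS.StAdm B)
    (hVj : V ≤ H20SS.piece B j.1.inv) :
    ∃ aj : AlgGrp.Action G (resObj (resObj X (psOpen B)) ((psIncl B ≫ H20SS.quotMap B).left ⁻¹ᵁ V)),
      aj.act ≫ resIncl _ _ = (G ◁ resIncl _ _) ≫ aP.act ∧ IsFinite (GIT.psi aj (𝟙 _)).left := by
  haveI := H20SS.isAffineHom_quotMap B hG aU haU
  obtain ⟨aj, haj, -⟩ := H20GQ.exists_action hiP (H20GQ.isPullback_resHom (psIncl B ≫ H20SS.quotMap B) V)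
  refine ⟨aj, haj, ?_⟩
  haveI : IsAffine (resObj (resObj X (psOpen B)) ((psIncl B ≫ H20SS.quotMap B).left ⁻¹ᵁ V)).left := by
    refine IsAffineOpen.preimage_of_isOpenImmersion (hV.preimage (H20SS.quotMap B).left)
      (X.left.homOfLE (psOpen_le B)) ?_
    rw [Scheme.opensRange_homOfLE]
    exact hVU
  let i := resIncl (resObj X (psOpen B)) ((psIncl B ≫ H20SS.quotMap B).left ⁻¹ᵁ V) ≫ resIncl X (psOpen B)
  haveI : IsOpenImmersion i.left :=
    inferInstanceAs (IsOpenImmersion (((psIncl B ≫ H20SS.quotMap B).left ⁻¹ᵁ V).ι ≫ (psOpen B).ι))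
  haveI : LocallyOfFiniteType (resObj (resObj X (psOpen B)) ((psIncl B ≫ H20SS.quotMap B).left ⁻¹ᵁ V)).hom :=
    inferInstanceAs (LocallyOfFiniteType (((psIncl B ≫ H20SS.quotMap B).left ⁻¹ᵁ V).ι ≫ (psOpen B).ι ≫ X.hom))
  have hiact : aj.act ≫ i = (G ◁ i) ≫ a.act := by
    rw [reassoc_of% haj, haP, whiskerLeft_comp_assoc]
  refine isFinite_psi_of_closed aj hG ?_ fun Ω _ _ T e f => ?_
  · refine H20SS.isClosedAction_of_closedOrbitsOn i ?_ aj hiact j.2
    rintro _ ⟨z, rfl⟩
    have hz : (psIncl B).left z.1 ∈ (H20SS.quotMap B).left ⁻¹ᵁ H20SS.piece B j.1.inv := hVj z.2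
    rw [H20SS.quotMap_preimage B j.1.inv j.1.pos] at hz
    show (psOpen B).ι z.1 ∈ _
    rw [← ι_psIncl B z.1]
    exact hz
  · exact finite_fibre_of_mono i aj hiact f ((finite_fibre_iff a _).1
      (finite_of_mem_finStabLocus a e (f ≫ i) (t := e.inv (IsLocalRing.closedPoint Ω))
        (((resIncl (resObj X (psOpen B)) ((psIncl B ≫ H20SS.quotMap B).left ⁻¹ᵁ V)).left
          (f.left (e.inv (IsLocalRing.closedPoint Ω)))).2).2).1)

include hG haU in
theorem isFinite_psi_psOpen (aP : AlgGrp.Action G (resObj X (psOpen B)))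
    (haP : aP.act ≫ resIncl X (psOpen B) = (G ◁ resIncl X (psOpen B)) ≫ a.act) :
    IsFinite (GIT.psi aP (𝟙 (resObj X (psOpen B)))).left := by
  have hq := H20SS.isInvariant_quotMap B hG aU haU
  have e : aP.act ≫ psIncl B = (G ◁ psIncl B) ≫ aU.act := by
    rw [← cancel_mono (resIncl X (H20SS.ssOpen B)), Category.assoc, Category.assoc, psIncl_comp, haU,
      ← whiskerLeft_comp_assoc, psIncl_comp, haP]
  have hiP : GIT.IsInvariant aP (psIncl B ≫ H20SS.quotMap B) := by
    unfold GIT.IsInvariant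
    rw [reassoc_of% e, hq, whiskerLeft_snd_assoc]
  haveI : IsSeparated (H20SS.quotObj B).hom := by
    show IsSeparated ((H20SS.quotOpen B).ι ≫ (H20SS.projOver B).hom)
    infer_instance
  refine isFinite_psi_of_cover (psIncl B ≫ H20SS.quotMap B) hiP
    (fun V : {V : (H20SS.quotObj B).left.Opens // IsAffineOpen V ∧
      (H20SS.quotMap B).left ⁻¹ᵁ V ≤ (H20SS.ssOpen B).ι ⁻¹ᵁ psOpen B ∧
      ∃ j : H20SS.StAdm B, V ≤ H20SS.piece B j.1.inv} => V.1) (fun x => ?_) fun V => ?_
  · obtain ⟨j, hj⟩ := Opens.mem_iSup.1 x.2.1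
    have hu : (psIncl B).left x ∈ (H20SS.ssOpen B).ι ⁻¹ᵁ psOpen B := by
      show (H20SS.ssOpen B).ι ((psIncl B).left x) ∈ psOpen B
      rw [ι_psIncl B x]
      exact x.2
    have hpc : (H20SS.quotMap B).left ((psIncl B).left x) ∈ H20SS.piece B j.1.inv := by
      show (psIncl B).left x ∈ (H20SS.quotMap B).left ⁻¹ᵁ H20SS.piece B j.1.inv
      rw [H20SS.quotMap_preimage B j.1.inv j.1.pos]
      show (H20SS.ssOpen B).ι ((psIncl B).left x) ∈ H20SS.nvOpen B.π j.1.sec
      rw [ι_psIncl B x]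
      exact hj
    obtain ⟨_, ⟨V, hV, rfl⟩, hyV, hVle⟩ := (H20SS.quotObj B).left.isBasis_affineOpens.exists_subset_of_mem_open
      (show (H20SS.quotMap B).left ((psIncl B).left x) ∈
          ((H20SS.quotMap B).left '' (psPre B : Set (resObj X (H20SS.ssOpen B)).left)) ∩ (H20SS.piece B j.1.inv : Set _)
        from ⟨⟨_, hu, rfl⟩, hpc⟩)
      ((isOpen_image_psOpen B hG aU haU).inter (H20SS.piece B j.1.inv).isOpen)
    exact ⟨⟨V, hV, fun z hz => (preimage_image_psOpen B hG aU haU).le (hVle hz).1, j, fun z hz => (hVle hz).2⟩, hyV⟩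
  · obtain ⟨V, hV, hVU, j, hVj⟩ := V
    exact isFinite_psi_chart B hG aU haU aP haP hiP V hV hVU j hVj

end

end Groth.Agent.H20Prop
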