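import Groth.Agent.H20Prop.StabLocus
import Mathlib.AlgebraicGeometry.AlgClosed.Basic

/-!
Stabilisers of geometric points through their rational points.
-/

set_option autoImplicit false
set_option linter.style.haveILetI false
set_option backward.isDefEq.respectTransparency false

universe u

open CategoryTheory CategoryTheory.Limits MonoidalCategory CartesianMonoidalCategory MonObj GrpObj AlgebraicGeometry
  TopologicalSpace

namespace Groth.Agent.H20Prop

noncomputable section

variable {k : Type u} [Field k] {G X : Over (Spec (CommRingCat.of k))} [GrpObj G] (a : AlgGrp.Action G X)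
  {T : Over (Spec (CommRingCat.of k))} {Ω : Type u} [Field Ω]

/-- Geometric points lift along surjective morphisms locally of finite type. -/
theorem exists_lift_point [IsAlgClosed Ω] (e : T.left ≅ Spec (CommRingCat.of Ω))
    {A B : Over (Spec (CommRingCat.of k))} (p : A ⟶ B) [LocallyOfFiniteType p.left]
    (hp : Function.Surjective p.left) (b : T ⟶ B) : ∃ x : T ⟶ A, x ≫ p = b := by
  let π := pullback.snd p.left b.left
  let P : Over (Spec (CommRingCat.of k)) := Over.mk (π ≫ T.hom)
  let πo : P ⟶ T := Over.homMk π rfl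
  haveI : LocallyOfFiniteType π := MorphismProperty.pullback_snd (P := @LocallyOfFiniteType) _ _ inferInstance
  haveI : LocallyOfFiniteType πo.left := ‹LocallyOfFiniteType π›
  let i : P ⟶ A := Over.homMk (pullback.fst p.left b.left) (by
    show _ = π ≫ T.hom
    rw [← Over.w p, pullback.condition_assoc, Over.w b])
  haveI : JacobsonSpace P.left := LocallyOfFiniteType.jacobsonSpace (π ≫ e.hom)
  obtain ⟨t⟩ : Nonempty T.left := ⟨e.inv (IsLocalRing.closedPoint Ω)⟩
  obtain ⟨z₀, hz₀⟩ := hp (b.left t)
  obtain ⟨w, -, -⟩ := Scheme.Pullback.exists_preimage_pullback (f := p.left) (g := b.left) z₀ t hz₀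
  obtain ⟨z, -, hz⟩ := nonempty_inter_closedPoints (Z := (Set.univ : Set P.left)) ⟨w, trivial⟩
    isOpen_univ.isLocallyClosed
  obtain ⟨s, hs, -⟩ := exists_section e πo hz
  refine ⟨s ≫ i, ?_⟩
  have h : i ≫ p = πo ≫ b := Over.OverMorphism.ext pullback.condition
  rw [Category.assoc, h, ← Category.assoc, hs, Category.id_comp]

/-- Geometric points with the same image under an orbit space map differ by a point of the group. -/
theorem exists_orbit_point [IsAlgClosed Ω] (e : T.left ≅ Spec (CommRingCat.of Ω)) [LocallyOfFiniteType G.hom]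
    {Y : Over (Spec (CommRingCat.of k))} {φ : X ⟶ Y} (hi : GIT.IsInvariant a φ)
    (ho : Function.Surjective (GIT.PsiY a φ hi)) (x x' : T ⟶ X) (h : x' ≫ φ = x ≫ φ) :
    ∃ g : T ⟶ G, lift g x ≫ a.act = x' := by
  let R : Over (Spec (CommRingCat.of k)) := Over.mk (pullback.snd φ.left φ.left ≫ X.hom)
  let Ψ : G ⊗ X ⟶ R := Over.homMk (GIT.PsiY a φ hi) (by
    show _ ≫ pullback.snd _ _ ≫ X.hom = _
    rw [GIT.PsiY, pullback.lift_snd_assoc, Over.w])
  haveI : LocallyOfFiniteType (snd G X).left := inferInstanceAs (LocallyOfFiniteType (pullback.snd G.hom X.hom))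
  haveI : LocallyOfFiniteType Ψ.left := by
    haveI : LocallyOfFiniteType (Ψ.left ≫ pullback.snd φ.left φ.left) := by
      show LocallyOfFiniteType (GIT.PsiY a φ hi ≫ _)
      rw [GIT.PsiY, pullback.lift_snd]
      infer_instance
    exact locallyOfFiniteType_of_comp _ (pullback.snd φ.left φ.left)
  let b : T ⟶ R := Over.homMk (pullback.lift x'.left x.left (congrArg (fun m : T ⟶ Y => m.left) h)) (by
    show _ ≫ pullback.snd _ _ ≫ X.hom = _
    rw [pullback.lift_snd_assoc, Over.w])
  obtain ⟨s, hs⟩ := exists_lift_point e Ψ ho b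
  have h1 : s ≫ snd G X = x := Over.OverMorphism.ext (by
    have := congrArg (fun m : T ⟶ R => m.left ≫ pullback.snd φ.left φ.left) hs
    simpa [Ψ, b, GIT.PsiY] using this)
  have h2 : s ≫ a.act = x' := Over.OverMorphism.ext (by
    have := congrArg (fun m : T ⟶ R => m.left ≫ pullback.fst φ.left φ.left) hs
    simpa [Ψ, b, GIT.PsiY] using this)
  refine ⟨s ≫ fst G X, ?_⟩
  rw [← h2]
  congr 1
  apply CartesianMonoidalCategory.hom_ext
  · simp
  · simp [h1]

/-- A stabiliser of a geometric point is finite exactly when it has finitely many rational points. -/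
theorem isFinite_stabTo_iff [IsAlgClosed Ω] [LocallyOfFiniteType G.hom] [QuasiCompact G.hom]
    [QuasiSeparated X.hom] (e : T.left ≅ Spec (CommRingCat.of Ω)) (f : T ⟶ X) :
    IsFinite (GLinSh.stabTo a f) ↔ Finite {g : T ⟶ G // lift g f ≫ a.act = f} := by
  let π := GLinSh.stabTo a f
  haveI := subsingleton_of_iso e
  haveI : LocallyOfFiniteType π := by
    haveI : LocallyOfFiniteType (snd G T).left := inferInstanceAs (LocallyOfFiniteType (pullback.snd G.hom T.hom))
    haveI : LocallyOfFiniteType ((GIT.psi a f).left ≫ (snd X T).left) := by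
      rw [← Over.comp_left, H20GIT.psi_snd]
      infer_instance
    haveI : LocallyOfFiniteType (GIT.psi a f).left := locallyOfFiniteType_of_comp _ (snd X T).left
    exact MorphismProperty.pullback_snd (P := @LocallyOfFiniteType) _ _ inferInstance
  haveI : QuasiCompact π := by
    haveI : QuasiCompact (snd G T).left := inferInstanceAs (QuasiCompact (pullback.snd G.hom T.hom))
    haveI : QuasiSeparated (snd X T).left := inferInstanceAs (QuasiSeparated (pullback.snd X.hom T.hom))
    haveI : QuasiCompact ((GIT.psi a f).left ≫ (snd X T).left) := by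
      rw [← Over.comp_left, H20GIT.psi_snd]
      infer_instance
    haveI : QuasiCompact (GIT.psi a f).left := QuasiCompact.of_comp _ (snd X T).left
    exact MorphismProperty.pullback_snd (P := @QuasiCompact) _ _ inferInstance
  haveI : JacobsonSpace (GLinSh.stab a f) := LocallyOfFiniteType.jacobsonSpace (π ≫ e.hom)
  let P : Over (Spec (CommRingCat.of k)) := Over.mk (π ≫ T.hom)
  let πo : P ⟶ T := Over.homMk π rfl
  let i : P ⟶ G ⊗ T := Over.homMk (pullback.fst (GIT.psi a f).left (lift f (𝟙 T)).left) (by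
    rw [← Over.w (snd G T)]
    show _ = π ≫ T.hom
    rw [← Category.assoc, H20GIT.fst_snd_eq])
  have h1 : i ≫ snd G T = πo := Over.OverMorphism.ext (H20GIT.fst_snd_eq a f)
  have h4 : i ≫ GIT.psi a f = πo ≫ lift f (𝟙 T) := Over.OverMorphism.ext pullback.condition
  have hψ : ∀ g : T ⟶ G, lift g (𝟙 T) ≫ GIT.psi a f = lift (lift g f ≫ a.act) (𝟙 T) := fun g => by
    apply CartesianMonoidalCategory.hom_ext <;> simp [GIT.psi, lift_whiskerLeft_assoc]
  let A : {g : T ⟶ G // lift g f ≫ a.act = f} ≃
      {s : Spec (CommRingCat.of Ω) ⟶ GLinSh.stab a f // s ≫ π ≫ e.hom = 𝟙 _} :=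
    { toFun := fun g => ⟨e.inv ≫ pullback.lift (lift g.1 (𝟙 T)).left (𝟙 T.left) (by
          rw [← Over.comp_left, hψ, g.2, Category.id_comp]), by
        rw [Category.assoc]
        show e.inv ≫ pullback.lift _ _ _ ≫ pullback.snd _ _ ≫ e.hom = _
        rw [pullback.lift_snd_assoc, Category.id_comp, e.inv_hom_id]⟩
      invFun := fun s =>
        let t : T ⟶ P := Over.homMk (e.hom ≫ s.1) (by
          show (e.hom ≫ s.1) ≫ π ≫ T.hom = T.hom
          have := congrArg (fun r => e.hom ≫ r ≫ e.inv ≫ T.hom) s.2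
          simpa using this)
        ⟨t ≫ i ≫ fst G T, by
          have ht : t ≫ πo = 𝟙 T := Over.OverMorphism.ext (by
            show (e.hom ≫ s.1) ≫ π = 𝟙 _
            rw [← cancel_mono e.hom, Category.assoc, Category.assoc, s.2, Category.comp_id, Category.id_comp])
          have h2 : t ≫ i = lift (t ≫ i ≫ fst G T) (𝟙 T) := by
            apply CartesianMonoidalCategory.hom_ext <;> simp [h1, ht]
          have h3 : lift (t ≫ i ≫ fst G T) (𝟙 T) ≫ GIT.psi a f = lift f (𝟙 T) := by
            rw [← h2, Category.assoc, h4, ← Category.assoc, ht, Category.id_comp]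
          rw [hψ] at h3
          have h5 := congrArg (· ≫ fst X T) h3
          simpa using h5⟩
      left_inv := fun g => Subtype.ext (Over.OverMorphism.ext (by
        simp only [Over.comp_left, i, Over.homMk_left, e.hom_inv_id_assoc]
        rw [pullback.lift_fst_assoc, ← Over.comp_left, lift_fst]))
      right_inv := fun s => Subtype.ext (by
        have hs : (e.hom ≫ s.1) ≫ π = 𝟙 _ := by
          rw [← cancel_mono e.hom, Category.assoc, Category.assoc, s.2, Category.comp_id, Category.id_comp]
        rw [← cancel_epi e.hom, e.hom_inv_id_assoc]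
        apply pullback.hom_ext
        · rw [pullback.lift_fst]
          let t : T ⟶ P := Over.homMk (e.hom ≫ s.1) (by
            show (e.hom ≫ s.1) ≫ π ≫ T.hom = T.hom
            rw [← Category.assoc, hs, Category.id_comp])
          have h2 : t ≫ i = lift (t ≫ i ≫ fst G T) (𝟙 T) := by
            have ht : t ≫ πo = 𝟙 T := Over.OverMorphism.ext hs
            apply CartesianMonoidalCategory.hom_ext <;> simp [h1, ht]
          exact (congrArg (fun m : T ⟶ G ⊗ T => m.left) h2).symm
        · rw [pullback.lift_snd]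
          exact hs.symm) }
  rw [(A.trans (pointEquivClosedPoint (π ≫ e.hom))).finite_iff]
  constructor
  · intro h
    obtain ⟨t⟩ : Nonempty T.left := ⟨e.inv (IsLocalRing.closedPoint Ω)⟩
    haveI : Finite (GLinSh.stab a f) := Set.finite_univ_iff.1
      ((π.finite_preimage_singleton t).subset fun x _ => Subsingleton.elim _ t)
    infer_instance
  · intro h
    have hc : IsClosed (closedPoints (GLinSh.stab a f)) := by
      rw [← Set.biUnion_of_singleton (closedPoints (GLinSh.stab a f))]
      exact Set.Finite.isClosed_biUnion (Set.toFinite _) fun x hx => hx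
    have hall : closedPoints (GLinSh.stab a f) = Set.univ := by
      rw [← hc.closure_eq, closure_closedPoints]
    haveI : Finite (GLinSh.stab a f) := Set.finite_univ_iff.1 (hall ▸ Set.toFinite _)
    haveI : LocallyQuasiFinite π := LocallyQuasiFinite.of_finite_preimage_singleton π fun _ => Set.toFinite _
    haveI : IsFinite (π ≫ e.hom) := IsFinite.of_locallyQuasiFinite _
    exact (MorphismProperty.cancel_right_of_respectsIso @IsFinite π e.hom).1 inferInstance

/-- Finiteness of stabilisers along the orbit space map of a normal subgroup. -/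
theorem finite_sol_quot_iff [IsAlgClosed Ω] {N Q Y : Over (Spec (CommRingCat.of k))} [GrpObj N] [GrpObj Q]
    [LocallyOfFiniteType N.hom] (e : T.left ≅ Spec (CommRingCat.of Ω))
    (i : N ⟶ G) (q : G ⟶ Q) [IsMonHom q] [LocallyOfFiniteType q.left] [Surjective q.left]
    (hker : AlgGrp.IsKernel i q) (aN : AlgGrp.Action N X) (haN : aN.act = (i ▷ X) ≫ a.act) {π : X ⟶ Y}
    (hi : GIT.IsInvariant aN π) (ho : Function.Surjective (GIT.PsiY aN π hi))
    (aQ : AlgGrp.Action Q Y) (hequiv : (q ⊗ₘ π) ≫ aQ.act = a.act ≫ π) (x : T ⟶ X)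
    [Finite {n : T ⟶ N // lift n x ≫ aN.act = x}] :
    Finite {g : T ⟶ Q // lift g (x ≫ π) ≫ aQ.act = x ≫ π} ↔ Finite {g : T ⟶ G // lift g x ≫ a.act = x} := by
  have hiq : ∀ n : T ⟶ N, (n ≫ i) ≫ q = 1 := fun n => by
    rw [Category.assoc, hker.w, ← Category.assoc, comp_toUnit]
    rfl
  have hN' : ∀ n : T ⟶ N, lift (n ≫ i) x ≫ a.act = lift n x ≫ aN.act := fun n => by
    rw [haN, lift_whiskerRight_assoc]
  let F : {g : T ⟶ G // lift g x ≫ a.act = x} → {g : T ⟶ Q // lift g (x ≫ π) ≫ aQ.act = x ≫ π} := fun g =>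
    ⟨g.1 ≫ q, by rw [← lift_map_assoc, hequiv, reassoc_of% g.2]⟩
  have hsurj : Function.Surjective F := by
    intro g
    obtain ⟨h, hh⟩ := exists_lift_point e q q.left.surjective g.1
    have h1 : (lift h x ≫ a.act) ≫ π = x ≫ π := by
      rw [Category.assoc, ← hequiv, lift_map_assoc, hh]
      exact g.2
    obtain ⟨n, hn⟩ := exists_orbit_point aN e hi ho x _ h1
    refine ⟨⟨(n ≫ i)⁻¹ * h, ?_⟩, Subtype.ext ?_⟩
    · rw [H20GIT.act_mul, ← hn, ← hN', ← H20GIT.act_mul, inv_mul_cancel, H20GIT.act_one]
    · show ((n ≫ i)⁻¹ * h) ≫ q = g.1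
      rw [MonObj.mul_comp, GrpObj.inv_comp, hiq, inv_one, _root_.one_mul, hh]
  constructor
  · intro hQ
    have hfib : ∀ g, (F ⁻¹' {g}).Finite := by
      intro g
      rcases (F ⁻¹' {g}).eq_empty_or_nonempty with h0 | ⟨h₀, hh₀⟩
      · rw [h0]; exact Set.finite_empty
      refine Set.Finite.of_finite_image (f := Subtype.val) (Set.Finite.subset (Set.finite_range
        fun n : {n : T ⟶ N // lift n x ≫ aN.act = x} => (n.1 ≫ i) * h₀.1) ?_) Subtype.val_injective.injOn
      rintro _ ⟨h, hh, rfl⟩
      have hq : h.1 ≫ q = h₀.1 ≫ q := congrArg Subtype.val (hh.trans hh₀.symm)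
      have h2 : (h.1 * h₀.1⁻¹) ≫ q = toUnit T ≫ η[Q] := by
        rw [MonObj.mul_comp, GrpObj.inv_comp, hq, mul_inv_cancel]
        rfl
      obtain ⟨n, hn, -⟩ : ∃ n : T ⟶ N, n ≫ i = h.1 * h₀.1⁻¹ ∧ n ≫ toUnit N = toUnit T :=
        ⟨hker.lift _ _ h2, hker.lift_fst _ _ _, hker.lift_snd _ _ _⟩
      refine ⟨⟨n, ?_⟩, ?_⟩
      · rw [← hN', hn, H20GIT.act_mul]
        have : lift h₀.1⁻¹ x ≫ a.act = x := by
          obtain ⟨g₀, hg₀⟩ := h₀
          show lift g₀⁻¹ x ≫ a.act = x
          conv_lhs => rw [← hg₀, ← H20GIT.act_mul, inv_mul_cancel, H20GIT.act_one]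
        rw [this, h.2]
      · show (n ≫ i) * h₀.1 = h.1
        rw [hn, inv_mul_cancel_right]
    exact Set.finite_univ_iff.1 ((Set.finite_univ.preimage' fun g _ => hfib g).subset fun _ _ => trivial)
  · intro hH
    exact Finite.of_surjective F hsurj

end

end Groth.Agent.H20Prop
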