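import Groth.Agent.H20Prop.Integral
import Groth.Prelude.Def_GLin
import Mathlib.RingTheory.Finiteness.Basic

/-!
Finiteness of `(b, b') ↦ (b, coaction b')` can be tested on the fibres over maximal ideals.
-/

set_option autoImplicit false
set_option linter.unusedSectionVars false
set_option backward.isDefEq.respectTransparency false

universe u

open TensorProduct HopfRep

namespace Groth.Agent.H20Prop

noncomputable section

variable (k : Type u) [Field k] (A : Type u) [CommRing A] [HopfAlgebra k A] {B : Type u} [CommRing B] [Algebra k B]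
  [Comod k A B] [GLin.IsCoactAlg k A B] {K : Type u} [CommRing K] [Algebra k K]

/-- The orbit map of a point, on functions. -/
def rho (f : B →ₐ[k] K) : K ⊗[k] B →ₐ[k] K ⊗[k] A :=
  Algebra.TensorProduct.productMap Algebra.TensorProduct.includeLeft
    ((Algebra.TensorProduct.map f (AlgHom.id k A)).comp (GLin.coactAlgHom k A B))

theorem rho_tmul (f : B →ₐ[k] K) (x : K) (b : B) :
    rho k A f (x ⊗ₜ b) = (x ⊗ₜ (1 : A)) * f.toLinearMap.rTensor A (Comod.coact (k := k) (A := A) b) := rfl

theorem coS_coact (b : B) :
    coS k A B (Comod.coact (k := k) (A := A) b) =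
      (Comod.coact (k := k) (A := A) (V := B)).rTensor A (Comod.coact (k := k) (A := A) b) := by
  apply (TensorProduct.assoc k B A A).injective
  have h := LinearMap.congr_fun (Comod.coassoc (k := k) (A := A) (V := B)) b
  simp only [LinearMap.comp_apply, LinearEquiv.coe_coe] at h
  rw [h]
  induction Comod.coact (k := k) (A := A) b using TensorProduct.induction_on with
  | zero => simp
  | add x y hx hy => simp only [map_add, hx, hy]
  | tmul p a =>
    rw [coS_tmul, LinearMap.lTensor_tmul]
    induction CoalgebraStruct.comul (R := k) a using TensorProduct.induction_on with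
    | zero => simp
    | add x y hx hy => simp only [map_add, TensorProduct.tmul_add, hx, hy]
    | tmul x y => simp

/-- Finiteness of the orbit map from its fibres. -/
theorem finite_rho {α : A →ₗ[k] k} (hα : H20Comod.IsIntegral α) (h1 : α 1 = 1) [Algebra.FiniteType k A]
    (hfib : ∀ m : Ideal B, m.IsMaximal → (rho k A (Ideal.Quotient.mkₐ k m)).toRingHom.Finite) :
    (rho k A (AlgHom.id k B)).toRingHom.Finite := by
  classical
  set ρ := rho k A (AlgHom.id k B)
  have hρb : ∀ (p b : B), ρ (p ⊗ₜ b) = (p ⊗ₜ (1 : A)) * Comod.coact (k := k) (A := A) b := fun p b => by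
    rw [rho_tmul, AlgHom.toLinearMap_id, LinearMap.rTensor_id, LinearMap.id_apply]
  let R' := ρ.range
  have hP : ∀ p : B, p ⊗ₜ[k] (1 : A) ∈ R' := fun p => by
    refine ⟨p ⊗ₜ 1, ?_⟩
    show ρ _ = _
    rw [hρb, GLin.IsCoactAlg.coact_one, _root_.mul_one]
  have hst : ∀ r ∈ R', coS k A B r ∈ LinearMap.range (R'.toSubmodule.subtype.rTensor A) := by
    rintro _ ⟨w, rfl⟩
    show coS k A B (ρ w) ∈ _
    induction w using TensorProduct.induction_on with
    | zero => simp
    | add x y hx hy => rw [map_add, map_add]; exact add_mem hx hy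
    | tmul p b =>
      rw [hρb, map_mul, coS_coact, coS_tmul, Bialgebra.comul_one, Algebra.TensorProduct.one_def,
        LinearMap.rTensor_tmul]
      induction Comod.coact (k := k) (A := A) b using TensorProduct.induction_on with
      | zero => simp
      | add x y hx hy => rw [map_add, mul_add]; exact add_mem hx hy
      | tmul q a =>
        exact ⟨(⟨ρ (p ⊗ₜ q), ⟨p ⊗ₜ q, rfl⟩⟩ : ↥R'.toSubmodule) ⊗ₜ a, by simp [hρb]⟩
  have hint : Algebra.IsIntegral R' (B ⊗[k] A) := by
    refine isIntegral_of_fibres hα h1 R' hP hst fun m hm => ?_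
    let q := Ideal.Quotient.mkₐ k m
    let π : B ⊗[k] A →ₐ[k] (B ⧸ m) ⊗[k] A := Algebra.TensorProduct.map q (AlgHom.id k A)
    have hπρ : ∀ w : B ⊗[k] B, π (ρ w) = rho k A q (q.toLinearMap.rTensor B w) := by
      intro w
      induction w using TensorProduct.induction_on with
      | zero => simp
      | add x y hx hy => simp only [map_add, hx, hy]
      | tmul p b =>
        rw [hρb, map_mul, LinearMap.rTensor_tmul, rho_tmul, Algebra.TensorProduct.map_tmul]
        congr 1
    have hπsurj : Function.Surjective π :=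
      LinearMap.rTensor_surjective A (g := q.toLinearMap) Ideal.Quotient.mk_surjective
    have hqsurj : Function.Surjective (q.toLinearMap.rTensor B) :=
      LinearMap.rTensor_surjective B Ideal.Quotient.mk_surjective
    letI := (rho k A q).toRingHom.toAlgebra
    have hF : Module.Finite ((B ⧸ m) ⊗[k] B) ((B ⧸ m) ⊗[k] A) := hfib m hm
    obtain ⟨t, ht⟩ := hF.fg_top
    choose l hl using hπsurj
    refine ⟨t.image l, fun z => ?_⟩
    have hmem : ∀ y : (B ⧸ m) ⊗[k] A, ∃ x ∈ R'.toSubmodule * Submodule.span k ((t.image l : Finset _) : Set _),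
        π x = y := by
      intro y
      have hy : y ∈ @Submodule.span ((B ⧸ m) ⊗[k] B) _ _ _ (rho k A q).toRingHom.toAlgebra.toModule (t : Set _) := by
        rw [ht]; trivial
      letI := (rho k A q).toRingHom.toAlgebra
      induction hy using Submodule.span_induction with
      | mem x hx =>
        refine ⟨l x, ?_, hl x⟩
        rw [← _root_.one_mul (l x)]
        exact Submodule.mul_mem_mul (one_mem R') (Submodule.subset_span (Finset.mem_image_of_mem l hx))
      | zero => exact ⟨0, zero_mem _, map_zero π⟩
      | add x y _ _ hx hy =>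
        obtain ⟨x', hx', rfl⟩ := hx
        obtain ⟨y', hy', rfl⟩ := hy
        exact ⟨x' + y', add_mem hx' hy', map_add π x' y'⟩
      | smul c x hxs hx =>
        obtain ⟨x', hx', rfl⟩ := hx
        obtain ⟨w, rfl⟩ := hqsurj c
        refine ⟨ρ w * x', ?_, ?_⟩
        · clear hl hxs
          induction hx' using Submodule.mul_induction_on' with
          | add a _ b _ ha hb => rw [mul_add]; exact add_mem ha hb
          | mem_mul_mem r hr s hs =>
            rw [← _root_.mul_assoc]
            exact Submodule.mul_mem_mul (R'.mul_mem ⟨w, rfl⟩ hr) hs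
        · rw [map_mul, hπρ]
          rfl
    obtain ⟨x, hx, hxz⟩ := hmem (π z)
    refine ⟨x, hx, ?_⟩
    have hex := rTensor_exact A (f := (m.restrictScalars k).subtype) (g := q.toLinearMap)
      (fun p => ⟨fun hp => ⟨⟨p, Ideal.Quotient.eq_zero_iff_mem.1 hp⟩, rfl⟩,
        by rintro ⟨p, rfl⟩; exact Ideal.Quotient.eq_zero_iff_mem.2 p.2⟩) Ideal.Quotient.mk_surjective
    refine (hex (z - x)).1 ?_
    show π (z - x) = 0
    rw [map_sub, hxz, sub_self]
  refine RingHom.IsIntegral.to_finite ?_ ?_
  · have h2 : (algebraMap R' (B ⊗[k] A)).IsIntegral := fun z => hint.isIntegral z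
    exact RingHom.IsIntegral.trans ρ.rangeRestrict.toRingHom _
      (RingHom.isIntegral_of_surjective _ ρ.rangeRestrict_surjective) h2
  · have h : RingHom.FiniteType (algebraMap B (B ⊗[k] A)) := RingHom.finiteType_algebraMap.2 inferInstance
    refine RingHom.FiniteType.of_comp_finiteType (f := (Algebra.TensorProduct.includeLeft : B →ₐ[k] B ⊗[k] B).toRingHom) ?_
    convert h using 1
    refine RingHom.ext fun p => ?_
    show ρ (p ⊗ₜ 1) = p ⊗ₜ 1
    rw [hρb, GLin.IsCoactAlg.coact_one, _root_.mul_one]

end

end Groth.Agent.H20Prop
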