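import Groth.Agent.H20Comod.LinRed
import Mathlib.RingTheory.Nakayama
import Mathlib.RingTheory.IntegralClosure.IsIntegralClosure.Basic

/-!
For a linearly reductive group, integrality of `P ⊗ A` over a translation stable subalgebra can be tested on the
fibres over the maximal ideals of `P`.
-/

set_option autoImplicit false
set_option linter.unusedSectionVars false

universe u

open TensorProduct HopfRep

namespace Groth.Agent.H20Prop

noncomputable section

open Groth.Agent.H20Comod

variable (k : Type u) [Field k] (A : Type u) [CommRing A] [HopfAlgebra k A] (P : Type u) [CommRing P] [Algebra k P]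

/-- Translation on the second factor. -/
def coS : P ⊗[k] A →ₐ[k] (P ⊗[k] A) ⊗[k] A :=
  (Algebra.TensorProduct.assoc k k k P A A).symm.toAlgHom.comp
    (Algebra.TensorProduct.map (AlgHom.id k P) (Bialgebra.comulAlgHom k A))

theorem coS_tmul (p : P) (a : A) :
    coS k A P (p ⊗ₜ a) = ((TensorProduct.mk k P A p).rTensor A) (CoalgebraStruct.comul (R := k) a) := by
  simp only [coS, AlgHom.comp_apply, Algebra.TensorProduct.map_tmul, AlgHom.coe_id, id_eq,
    Bialgebra.comulAlgHom_apply]
  induction CoalgebraStruct.comul (R := k) a using TensorProduct.induction_on with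
  | zero => simp
  | tmul x y => simp
  | add x y hx hy => simp only [TensorProduct.tmul_add, map_add, hx, hy]

/-- Evaluation at the identity. -/
def evE : P ⊗[k] A →ₗ[k] P :=
  (TensorProduct.rid k P).toLinearMap ∘ₗ (CoalgebraStruct.counit (R := k) (A := A)).lTensor P

theorem evE_tmul (p : P) (a : A) : evE k A P (p ⊗ₜ a) = CoalgebraStruct.counit (R := k) a • p := by
  simp [evE]

theorem evE_coS (z : P ⊗[k] A) : (evE k A P).rTensor A (coS k A P z) = z := by
  induction z using TensorProduct.induction_on with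
  | zero => simp
  | add x y hx hy => rw [map_add, map_add, hx, hy]
  | tmul p a =>
    rw [coS_tmul, ← LinearMap.comp_apply, ← LinearMap.rTensor_comp]
    have h : evE k A P ∘ₗ TensorProduct.mk k P A p =
        (LinearMap.toSpanSingleton k P p) ∘ₗ CoalgebraStruct.counit (R := k) (A := A) :=
      LinearMap.ext fun x => by simp [evE_tmul]
    rw [h, LinearMap.rTensor_comp, LinearMap.comp_apply, Coalgebra.rTensor_counit_comul]
    simp

/-- The comodule `P ⊗ A`. -/
@[reducible] def comodS : Comod k A (P ⊗[k] A) where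
  coact := (coS k A P).toLinearMap
  coassoc := by
    refine TensorProduct.ext' fun p a => ?_
    simp only [LinearMap.comp_apply, AlgHom.toLinearMap_apply, coS_tmul]
    have h := congrArg ((TensorProduct.mk k P A p).rTensor (A ⊗[k] A)) (Coalgebra.coassoc_apply (R := k) a)
    have l1 : ∀ w : A ⊗[k] A, (TensorProduct.assoc k (P ⊗[k] A) A A)
        ((coS k A P).toLinearMap.rTensor A ((TensorProduct.mk k P A p).rTensor A w)) =
        (TensorProduct.mk k P A p).rTensor (A ⊗[k] A)
          (TensorProduct.assoc k A A A ((CoalgebraStruct.comul (R := k) (A := A)).rTensor A w)) := by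
      intro w
      induction w using TensorProduct.induction_on with
      | zero => simp
      | add x y hx hy => simp only [map_add, hx, hy]
      | tmul x y =>
        simp only [LinearMap.rTensor_tmul, AlgHom.toLinearMap_apply, TensorProduct.mk_apply, coS_tmul]
        induction CoalgebraStruct.comul (R := k) x using TensorProduct.induction_on with
        | zero => simp
        | add x₁ x₂ hx hy => simp only [map_add, TensorProduct.add_tmul, hx, hy]
        | tmul x₁ x₂ => simp
    have l2 : ∀ w : A ⊗[k] A, (CoalgebraStruct.comul (R := k) (A := A)).lTensor (P ⊗[k] A)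
        ((TensorProduct.mk k P A p).rTensor A w) =
        (TensorProduct.mk k P A p).rTensor (A ⊗[k] A) ((CoalgebraStruct.comul (R := k) (A := A)).lTensor A w) := by
      intro w
      induction w using TensorProduct.induction_on with
      | zero => simp
      | add x y hx hy => simp only [map_add, hx, hy]
      | tmul x y => simp
    exact (l1 _).trans (h.trans (l2 _).symm)
  counit_comp := by
    refine TensorProduct.ext' fun p a => ?_
    simp only [LinearMap.comp_apply, AlgHom.toLinearMap_apply, coS_tmul]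
    have h := congrArg ((TensorProduct.mk k P A p).rTensor k) (Coalgebra.lTensor_counit_comul (R := k) a)
    have l : ∀ w : A ⊗[k] A, (CoalgebraStruct.counit (R := k) (A := A)).lTensor (P ⊗[k] A)
        ((TensorProduct.mk k P A p).rTensor A w) =
        (TensorProduct.mk k P A p).rTensor k ((CoalgebraStruct.counit (R := k) (A := A)).lTensor A w) := by
      intro w
      induction w using TensorProduct.induction_on with
      | zero => simp
      | add x y hx hy => simp only [map_add, hx, hy]
      | tmul x y => simp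
    exact (l _).trans (h.trans (by simp))

variable {k A P}

attribute [local instance] comodS

theorem coact_eq (z : P ⊗[k] A) : Comod.coact (k := k) (A := A) z = coS k A P z := rfl

/-- An equivariant map sends `1 ⊗ c` into `P ⊗ C` for a coideal `C`. -/
theorem equivariant_coideal (g : P ⊗[k] A →ₗ[k] P ⊗[k] A)
    (hg : ∀ z, coS k A P (g z) = g.rTensor A (coS k A P z)) {C : Submodule k A} {c : A} {ξ : A ⊗[k] C}
    (hξ : C.subtype.lTensor A ξ = CoalgebraStruct.comul (R := k) c) :
    g ((1 : P) ⊗ₜ c) = C.subtype.lTensor P ((evE k A P ∘ₗ g ∘ₗ TensorProduct.mk k P A 1).rTensor C ξ) := by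
  rw [← evE_coS k A P (g _), hg, coS_tmul, ← hξ, ← LinearMap.comp_apply (LinearMap.lTensor P C.subtype),
    LinearMap.lTensor_comp_rTensor, ← LinearMap.rTensor_comp_lTensor]
  simp only [LinearMap.rTensor_comp, LinearMap.comp_apply]

/-- A semisimple comodule is the sum of a stable complement. -/
theorem exists_equivariant_projection (hs : IsSemisimpleComod k A (P ⊗[k] A))
    {M N : Submodule k (P ⊗[k] A)} (hM : IsSubcomod (k := k) (A := A) M) (hN : IsSubcomod (k := k) (A := A) N)
    (hMN : M ⊔ N = ⊤) :
    ∃ g : P ⊗[k] A →ₗ[k] P ⊗[k] A, (∀ z, g z ∈ M) ∧ (∀ z, z - g z ∈ N) ∧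
      ∀ z, coS k A P (g z) = g.rTensor A (coS k A P z) := by
  obtain ⟨C', hC', hc⟩ := hs _ (isSubcomod_inf hM hN)
  have hK : IsSubcomod (k := k) (A := A) (C' ⊓ M) := isSubcomod_inf hC' hM
  have hKN : IsCompl (C' ⊓ M) N := by
    refine ⟨disjoint_iff_inf_le.2 fun z hz => ?_, codisjoint_iff_le_sup.2 fun z _ => ?_⟩
    · exact hc.disjoint.le_bot ⟨⟨hz.1.2, hz.2⟩, hz.1.1⟩
    · obtain ⟨x, hx, y, hy, rfl⟩ := Submodule.mem_sup.1 (hMN.ge (trivial : z ∈ ⊤))
      obtain ⟨x₁, hx₁, x₂, hx₂, rfl⟩ := Submodule.mem_sup.1 (hc.sup_eq_top.ge (trivial : x ∈ ⊤))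
      exact Submodule.mem_sup.2 ⟨x₂, ⟨hx₂, by simpa using sub_mem hx hx₁.1⟩, x₁ + y, add_mem hx₁.2 hy, by abel⟩
  let g := (C' ⊓ M).subtype ∘ₗ Submodule.projectionOnto _ _ hKN
  have h1 : g ∘ₗ (C' ⊓ M).subtype = (C' ⊓ M).subtype :=
    LinearMap.ext fun x => congrArg Subtype.val (Submodule.projectionOnto_apply_left hKN x)
  have h2 : g ∘ₗ N.subtype = 0 := LinearMap.ext fun x => by
    show ((Submodule.projectionOnto _ _ hKN (x : P ⊗[k] A) : ↥(C' ⊓ M)) : P ⊗[k] A) = 0
    rw [Submodule.projectionOnto_apply_right hKN x]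
    rfl
  have hgK : ∀ x ∈ C' ⊓ M, g x = x := fun x hx => LinearMap.congr_fun h1 ⟨x, hx⟩
  have hgN : ∀ y ∈ N, g y = 0 := fun y hy => LinearMap.congr_fun h2 ⟨y, hy⟩
  refine ⟨g, fun z => (Submodule.projectionOnto _ _ hKN z).2.2, fun z => ?_, fun z => ?_⟩ <;>
    obtain ⟨x, hx, y, hy, rfl⟩ := Submodule.mem_sup.1 (hKN.sup_eq_top.ge (trivial : z ∈ ⊤))
  · rw [map_add, hgK x hx, hgN y hy]
    simpa using hy
  · rw [map_add, hgK x hx, hgN y hy, add_zero, map_add, map_add]
    obtain ⟨x', hx'⟩ := hK x hx
    obtain ⟨y', hy'⟩ := hN y hy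
    rw [← coact_eq x, ← coact_eq y, ← hx', ← hy', ← LinearMap.comp_apply (g.rTensor A),
      ← LinearMap.rTensor_comp, h1, ← LinearMap.comp_apply (g.rTensor A), ← LinearMap.rTensor_comp, h2]
    simp

/-- The span of the products of a stable subalgebra with a subcomodule is stable. -/
theorem isSubcomod_mul (R' : Subalgebra k (P ⊗[k] A))
    (hst : ∀ r ∈ R', coS k A P r ∈ LinearMap.range (R'.toSubmodule.subtype.rTensor A))
    {V : Submodule k A} (hV : IsSubcomod (k := k) (A := A) V) :
    IsSubcomod (k := k) (A := A) (R'.toSubmodule * V.map (TensorProduct.mk k P A 1)) := by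
  intro z hz
  induction hz using Submodule.mul_induction_on' with
  | add x _ y _ hx hy => rw [map_add]; exact add_mem hx hy
  | mem_mul_mem r hr w hw =>
    obtain ⟨v, hv, rfl⟩ := Submodule.mem_map.1 hw
    obtain ⟨r', hr'⟩ := hst r hr
    obtain ⟨v', hv'⟩ := hV v hv
    replace hv' : V.subtype.rTensor A v' = CoalgebraStruct.comul (R := k) v := hv'
    rw [coact_eq, map_mul, ← hr', TensorProduct.mk_apply, coS_tmul, ← hv']
    clear hr' hv'
    induction r' using TensorProduct.induction_on with
    | zero => simp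
    | add x y hx hy => rw [map_add, add_mul]; exact add_mem hx hy
    | tmul x a =>
      induction v' using TensorProduct.induction_on with
      | zero => simp
      | add x y hx hy => rw [map_add, map_add, mul_add]; exact add_mem hx hy
      | tmul v₁ b =>
        exact ⟨(⟨_, Submodule.mul_mem_mul x.2 (Submodule.mem_map_of_mem v₁.2)⟩ :
          ↥(R'.toSubmodule * V.map (TensorProduct.mk k P A 1))) ⊗ₜ (a * b), by simp⟩

/-- The kernel of reduction modulo an ideal of `P` is stable. -/
theorem isSubcomod_ideal (m : Submodule k P) :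
    IsSubcomod (k := k) (A := A) (LinearMap.range (m.subtype.rTensor A)) := by
  rintro _ ⟨z, rfl⟩
  induction z using TensorProduct.induction_on with
  | zero => simp
  | add x y hx hy => rw [map_add, map_add]; exact add_mem hx hy
  | tmul p a =>
    rw [coact_eq, LinearMap.rTensor_tmul, coS_tmul]
    induction CoalgebraStruct.comul (R := k) a using TensorProduct.induction_on with
    | zero => simp
    | add x y hx hy => rw [map_add]; exact add_mem hx hy
    | tmul x y => exact ⟨(⟨_, p ⊗ₜ x, rfl⟩ : ↥(LinearMap.range (m.subtype.rTensor A))) ⊗ₜ y, by simp⟩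

/-- Nakayama on a coideal: finitely generated pieces are divided out locally on `P`. -/
theorem exists_smul_coideal_mem {α : A →ₗ[k] k} (hα : IsIntegral α) (h1 : α 1 = 1)
    {M : Submodule k (P ⊗[k] A)} (hM : IsSubcomod (k := k) (A := A) M)
    (hMP : ∀ (p : P) (z : P ⊗[k] A), z ∈ M → (p ⊗ₜ (1 : A)) * z ∈ M)
    (m : Ideal P) (hm : m ≠ ⊤) (hsup : M ⊔ LinearMap.range ((m.restrictScalars k).subtype.rTensor A) = ⊤)
    {C : Submodule k A} [Module.Finite k C] (hC : IsSubcoalg (k := k) C) :
    ∃ h : P, h ∉ m ∧ ∀ c ∈ C, h ⊗ₜ[k] c ∈ M := by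
  obtain ⟨g, hgM, hgN, hg⟩ :=
    exists_equivariant_projection (isSemisimpleComod_of_isIntegral hα h1) hM (isSubcomod_ideal _) hsup
  let J : Submodule P (P ⊗[k] C) :=
    { carrier := {e | C.subtype.lTensor P e ∈ M}
      add_mem' := fun ha hb => by simpa using add_mem ha hb
      zero_mem' := by simp
      smul_mem' := fun p e he => by
        have : C.subtype.lTensor P (p • e) = (p ⊗ₜ (1 : A)) * C.subtype.lTensor P e := by
          clear he
          induction e using TensorProduct.induction_on with
          | zero => simp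
          | add x y hx hy => simp only [smul_add, map_add, mul_add, hx, hy]
          | tmul q c => simp [TensorProduct.smul_tmul']
        show C.subtype.lTensor P (p • e) ∈ M
        rw [this]
        exact hMP p _ he }
  have hgen : ∀ c : C, ∃ e₁ ∈ J, (1 : P) ⊗ₜ[k] c - e₁ ∈ m • (⊤ : Submodule P (P ⊗[k] C)) := by
    intro c
    obtain ⟨w, hw⟩ := hC c c.2
    have hξ : C.subtype.lTensor A (C.subtype.rTensor C w) = CoalgebraStruct.comul (R := k) (c : A) := by
      rw [← LinearMap.comp_apply, LinearMap.lTensor_comp_rTensor]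
      exact hw
    set ξ := C.subtype.rTensor C w
    let G := (evE k A P ∘ₗ g ∘ₗ TensorProduct.mk k P A 1).rTensor C ξ
    have hG : g ((1 : P) ⊗ₜ (c : A)) = C.subtype.lTensor P G := equivariant_coideal g hg hξ
    refine ⟨G, show _ ∈ M from hG ▸ hgM _, ?_⟩
    have hid : ((1 : P) ⊗ₜ[k] c) = ((evE k A P ∘ₗ LinearMap.id ∘ₗ TensorProduct.mk k P A 1).rTensor C ξ) := by
      have hinj : Function.Injective (C.subtype.lTensor P) :=
        Module.Flat.lTensor_preserves_injective_linearMap _ C.injective_subtype
      refine hinj ?_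
      rw [← equivariant_coideal (LinearMap.id) (fun z => by simp) hξ]
      simp
    have hdiff : (1 : P) ⊗ₜ[k] c - G =
        (evE k A P ∘ₗ (LinearMap.id - g) ∘ₗ TensorProduct.mk k P A 1).rTensor C ξ := by
      rw [hid, LinearMap.sub_comp, LinearMap.comp_sub, LinearMap.rTensor_sub]
      rfl
    rw [hdiff]
    clear_value ξ
    clear hξ hid hdiff hG
    induction ξ using TensorProduct.induction_on with
    | zero => simp
    | add x y hx hy => rw [map_add]; exact add_mem hx hy
    | tmul a c' =>
      rw [LinearMap.rTensor_tmul]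
      obtain ⟨z, hz⟩ := hgN ((1 : P) ⊗ₜ a)
      have hmem : evE k A P ((1 : P) ⊗ₜ a - g ((1 : P) ⊗ₜ a)) ∈ m := by
        rw [← hz]
        clear hz
        induction z using TensorProduct.induction_on with
        | zero => simp
        | add x y hx hy => rw [map_add, map_add]; exact add_mem hx hy
        | tmul p b =>
          rw [LinearMap.rTensor_tmul, evE_tmul]
          exact (m.restrictScalars k).smul_mem _ p.2
      have heq : (evE k A P ∘ₗ (LinearMap.id - g) ∘ₗ TensorProduct.mk k P A 1) a ⊗ₜ[k] c' =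
          evE k A P ((1 : P) ⊗ₜ a - g ((1 : P) ⊗ₜ a)) • ((1 : P) ⊗ₜ[k] c') := by
        simp [TensorProduct.smul_tmul']
      rw [heq]
      exact Submodule.smul_mem_smul hmem trivial
  have hle : (⊤ : Submodule P (P ⊗[k] C)) ≤ J ⊔ m • ⊤ := by
    intro e he
    clear he
    induction e using TensorProduct.induction_on with
    | zero => simp
    | add x y hx hy => exact add_mem hx hy
    | tmul p c =>
      obtain ⟨e₁, he₁, he₂⟩ := hgen c
      have : p ⊗ₜ[k] c = p • ((1 : P) ⊗ₜ[k] c) := by simp [TensorProduct.smul_tmul']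
      rw [this]
      exact Submodule.smul_mem _ p (Submodule.mem_sup.2 ⟨e₁, he₁, _, he₂, by abel⟩)
  have htop : (⊤ : Submodule P ((P ⊗[k] C) ⧸ J)) ≤ m • ⊤ := by
    have h := Submodule.map_mono (f := J.mkQ) hle
    rw [Submodule.map_top, Submodule.range_mkQ, Submodule.map_sup, Submodule.mkQ_map_self, bot_sup_eq,
      Submodule.map_smul'', Submodule.map_top, Submodule.range_mkQ] at h
    exact h
  obtain ⟨r, hr, hr0⟩ := Submodule.exists_sub_one_mem_and_smul_eq_zero_of_fg_of_le_smul m ⊤ Module.Finite.fg_top htop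
  refine ⟨r, fun hrm => hm ((Ideal.eq_top_iff_one m).2 (by simpa using sub_mem hrm hr)), fun c hc => ?_⟩
  have hmem : r • ((1 : P) ⊗ₜ[k] (⟨c, hc⟩ : C)) ∈ J :=
    (Submodule.Quotient.mk_eq_zero J).1 (hr0 _ (trivial : J.mkQ ((1 : P) ⊗ₜ[k] (⟨c, hc⟩ : C)) ∈ ⊤))
  have h' : C.subtype.lTensor P (r • ((1 : P) ⊗ₜ[k] (⟨c, hc⟩ : C))) ∈ M := hmem
  simpa [TensorProduct.smul_tmul'] using h'

theorem isIntegral_of_smul_mem {R B : Type u} [CommRing R] [CommRing B] [Algebra R B] {N : Submodule R B}
    (hN : N.FG) (h1 : (1 : B) ∈ N) (x : B) (hx : ∀ n ∈ N, x * n ∈ N) : _root_.IsIntegral R x := by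
  haveI : Module.Finite R N := Module.Finite.iff_fg.2 hN
  obtain ⟨p, hp, hpx⟩ := LinearMap.exists_monic_and_aeval_eq_zero R
    ((Algebra.lmul R B x).restrict hx)
  refine ⟨p, hp, ?_⟩
  have key : ∀ (q : Polynomial R) (n : N),
      ((Polynomial.aeval ((Algebra.lmul R B x).restrict hx) q) n : B) = Polynomial.aeval x q * n := by
    intro q
    induction q using Polynomial.induction_on' with
    | add q r hq hr =>
      intro n
      rw [map_add, map_add, LinearMap.add_apply, Submodule.coe_add, hq, hr, add_mul]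
    | monomial d c =>
      intro n
      have hd : ∀ n : N, (((Algebra.lmul R B x).restrict hx ^ d) n : B) = x ^ d * n := by
        induction d with
        | zero => simp
        | succ d ih =>
          intro n
          rw [pow_succ, Module.End.mul_apply, ih, pow_succ, _root_.mul_assoc]
          rfl
      rw [Polynomial.aeval_monomial, Polynomial.aeval_monomial, Module.End.mul_apply, Module.algebraMap_end_apply,
        SetLike.val_smul, hd, Algebra.smul_def, _root_.mul_assoc]
  have h := key p ⟨1, h1⟩
  rw [hpx, mul_one] at h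
  exact h.symm

/-- Integrality from the fibres. -/
theorem isIntegral_of_fibres {α : A →ₗ[k] k} (hα : IsIntegral α) (h1 : α 1 = 1)
    (R' : Subalgebra k (P ⊗[k] A)) (hP : ∀ p : P, p ⊗ₜ[k] (1 : A) ∈ R')
    (hst : ∀ r ∈ R', coS k A P r ∈ LinearMap.range (R'.toSubmodule.subtype.rTensor A))
    (hfib : ∀ m : Ideal P, m.IsMaximal → ∃ F : Finset (P ⊗[k] A),
      ∀ z, ∃ x ∈ R'.toSubmodule * Submodule.span k (F : Set (P ⊗[k] A)),
        z - x ∈ LinearMap.range ((m.restrictScalars k).subtype.rTensor A)) :
    Algebra.IsIntegral R' (P ⊗[k] A) := by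
  classical
  suffices key : ∀ a : A, _root_.IsIntegral R' ((1 : P) ⊗ₜ[k] a) by
    refine ⟨fun z => ?_⟩
    induction z using TensorProduct.induction_on with
    | zero => exact isIntegral_zero
    | add x y hx hy => exact hx.add hy
    | tmul p a =>
      have h := (isIntegral_algebraMap (R := R') (A := P ⊗[k] A) (x := ⟨_, hP p⟩)).mul (key a)
      simpa using h
  intro a
  let I : Ideal P :=
    { carrier := {h | _root_.IsIntegral R' (h ⊗ₜ[k] a)}
      add_mem' := fun {x y} hx hy => by
        show _root_.IsIntegral R' _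
        rw [TensorProduct.add_tmul]
        exact hx.add hy
      zero_mem' := by
        show _root_.IsIntegral R' _
        rw [TensorProduct.zero_tmul]
        exact isIntegral_zero
      smul_mem' := fun p x hx => by
        show _root_.IsIntegral R' _
        have h := (isIntegral_algebraMap (R := R') (A := P ⊗[k] A) (x := ⟨_, hP p⟩)).mul hx
        simpa using h }
  suffices hI : I = ⊤ from (hI.ge (trivial : (1 : P) ∈ ⊤) : (1 : P) ∈ I)
  by_contra hne
  obtain ⟨m, hmax, hle⟩ := Ideal.exists_le_maximal I hne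
  obtain ⟨F, hF⟩ := hfib m hmax
  choose S hS using fun z : P ⊗[k] A => TensorProduct.exists_finset z
  obtain ⟨V, hVfin, hVs, hV⟩ := exists_finite_subcomod (k := k) (A := A) (V := A)
    (s := insert 1 (↑(F.biUnion fun z => (S z).image Prod.snd) : Set A)) ((Finset.finite_toSet _).insert 1)
  let M : Submodule k (P ⊗[k] A) := R'.toSubmodule * V.map (TensorProduct.mk k P A 1)
  have hMP : ∀ (p : P) (z : P ⊗[k] A), z ∈ M → (p ⊗ₜ (1 : A)) * z ∈ M := fun p z hz => by
    induction hz using Submodule.mul_induction_on' with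
    | add x _ y _ hx hy => rw [mul_add]; exact add_mem hx hy
    | mem_mul_mem r hr w hw => rw [← _root_.mul_assoc]; exact Submodule.mul_mem_mul (R'.mul_mem (hP p) hr) hw
  have hFM : Submodule.span k (F : Set (P ⊗[k] A)) ≤ M := by
    refine Submodule.span_le.2 fun z hz => ?_
    rw [hS z]
    refine sum_mem fun i hi => ?_
    have : i.1 ⊗ₜ[k] i.2 = (i.1 ⊗ₜ (1 : A)) * ((1 : P) ⊗ₜ[k] i.2) := by simp
    rw [SetLike.mem_coe] at *
    rw [this]
    exact Submodule.mul_mem_mul (hP _) (Submodule.mem_map_of_mem
      (hVs (Set.mem_insert_of_mem _ (Finset.mem_biUnion.2 ⟨z, hz, Finset.mem_image_of_mem _ hi⟩))))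
  have hRM : R'.toSubmodule * M ≤ M := by
    refine Submodule.mul_le.2 fun x hx y hy => ?_
    induction hy using Submodule.mul_induction_on' with
    | add a _ b _ ha hb => rw [mul_add]; exact add_mem ha hb
    | mem_mul_mem r hr w hw => rw [← _root_.mul_assoc]; exact Submodule.mul_mem_mul (R'.mul_mem hx hr) hw
  have hsup : M ⊔ LinearMap.range ((m.restrictScalars k).subtype.rTensor A) = ⊤ := by
    refine eq_top_iff.2 fun z _ => ?_
    obtain ⟨x, hx, hzx⟩ := hF z
    exact Submodule.mem_sup.2 ⟨x, hRM (Submodule.mul_le.2 (fun a ha b hb => Submodule.mul_mem_mul ha (hFM hb)) hx), _, hzx, by abel⟩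
  obtain ⟨Cs, hCs⟩ := (Module.Finite.iff_fg.1 hVfin : V.FG)
  obtain ⟨C, hCfin, hCsub, hC⟩ := exists_finite_subcoalg k
    (s := (fun v => a * v) '' (Cs : Set A)) ((Finset.finite_toSet _).image _)
  obtain ⟨h, hhm, hh⟩ := exists_smul_coideal_mem hα h1 (isSubcomod_mul R' hst hV) hMP m hmax.ne_top hsup hC
  refine hhm (hle ?_)
  have haV : ∀ v ∈ V, h ⊗ₜ[k] (a * v) ∈ M := by
    rw [← hCs]
    intro v hv
    induction hv using Submodule.span_induction with
    | mem x hx => exact hh _ (hCsub ⟨x, hx, rfl⟩)
    | zero => simp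
    | add x y _ _ hx hy => rw [mul_add, TensorProduct.tmul_add]; exact add_mem hx hy
    | smul c x _ hx => rw [mul_smul_comm, TensorProduct.tmul_smul]; exact Submodule.smul_mem _ c hx
  let N : Submodule R' (P ⊗[k] A) :=
    Submodule.span R' ((fun v => (1 : P) ⊗ₜ[k] v) '' (Cs : Set A))
  have hMN : ∀ z ∈ M, z ∈ N := fun z hz => by
    induction hz using Submodule.mul_induction_on' with
    | add x _ y _ hx hy => exact add_mem hx hy
    | mem_mul_mem r hr w hw =>
      have hw' : w ∈ N := by
        obtain ⟨v, hv, rfl⟩ := Submodule.mem_map.1 hw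
        clear hw
        rw [← hCs] at hv
        induction hv using Submodule.span_induction with
        | mem x hx => exact Submodule.subset_span ⟨x, hx, rfl⟩
        | zero => simp
        | add x y _ _ hx hy => rw [map_add]; exact add_mem hx hy
        | smul c x _ hx =>
          rw [map_smul]
          have := N.smul_mem (algebraMap k R' c) hx
          rwa [algebraMap_smul] at this
      exact N.smul_mem ⟨r, hr⟩ hw'
  have h1N : (1 : P ⊗[k] A) ∈ N := hMN _ (by
    rw [← _root_.one_mul (1 : P ⊗[k] A)]
    exact Submodule.mul_mem_mul (one_mem R') (Submodule.mem_map.2 ⟨1, hVs (Set.mem_insert _ _), rfl⟩))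
  show _root_.IsIntegral R' (h ⊗ₜ[k] a)
  have hfg : N.FG := Submodule.fg_span ((Finset.finite_toSet _).image _)
  refine isIntegral_of_smul_mem hfg h1N (h ⊗ₜ[k] a) fun z hz => ?_
  induction hz using Submodule.span_induction with
    | mem x hx =>
      obtain ⟨v, hv, rfl⟩ := hx
      have hvV : v ∈ V := hCs ▸ Submodule.subset_span hv
      exact hMN _ (by simpa using haV v hvV)
    | zero => simp
    | add x y _ _ hx hy => simpa [mul_add] using add_mem hx hy
    | smul c x _ hx =>
      rw [mul_smul_comm]
      exact N.smul_mem c hx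

end

end Groth.Agent.H20Prop
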