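import Groth.Agent.H20Prop.Main
import Groth.Agent.H20SS.Stable

/-!
Finiteness of the action map is local over an invariant morphism to a separated scheme.
-/

set_option autoImplicit false
set_option linter.style.haveILetI false
set_option backward.isDefEq.respectTransparency false

universe u v

open CategoryTheory CategoryTheory.Limits MonoidalCategory CartesianMonoidalCategory MonObj GrpObj AlgebraicGeometry
  TopologicalSpace
open Groth.Agent.H20GQ (resObj resIncl resHom)

namespace Groth.Agent.H20Prop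

noncomputable section

variable {S : Scheme.{u}} {G X : Over S} [GrpObj G] {a : AlgGrp.Action G X}

theorem range_whiskerLeft {P : Over S} (i : P ⟶ X) (C : Over S) :
    Set.range (C ◁ i).left = (snd C X).left ⁻¹' Set.range i.left := by
  ext z
  constructor
  · rintro ⟨w, rfl⟩
    refine ⟨(snd C P).left w, ?_⟩
    rw [← Scheme.Hom.comp_apply, ← Scheme.Hom.comp_apply, ← Over.comp_left, ← Over.comp_left, whiskerLeft_snd]
  · rintro ⟨p, hp⟩
    obtain ⟨w, -, hw⟩ := Scheme.exists_preimage_of_isPullback (H20GQ.isPullback_whiskerLeft i C) p z hp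
    exact ⟨w, hw⟩

theorem range_tensor {P : Over S} (i : P ⟶ X) :
    Set.range (i ⊗ₘ i).left = (fst X X).left ⁻¹' Set.range i.left ∩ (snd X X).left ⁻¹' Set.range i.left := by
  ext z
  constructor
  · rintro ⟨w, rfl⟩
    refine ⟨⟨(fst P P).left w, ?_⟩, ⟨(snd P P).left w, ?_⟩⟩ <;>
      rw [← Scheme.Hom.comp_apply, ← Scheme.Hom.comp_apply, ← Over.comp_left, ← Over.comp_left]
    · rw [tensorHom_fst]
    · rw [tensorHom_snd]
  · rintro ⟨⟨p, hp⟩, hz⟩
    obtain ⟨y, rfl⟩ := (range_whiskerLeft i X).ge hz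
    rw [← Scheme.Hom.comp_apply, ← Over.comp_left, whiskerLeft_fst] at hp
    obtain ⟨w, -, hw⟩ := Scheme.exists_preimage_of_isPullback (H20GQ.isPullback_whiskerRight i P) p y hp
    exact ⟨w, by rw [MonoidalCategory.tensorHom_def, Over.comp_left, Scheme.Hom.comp_apply, hw]⟩

theorem isFinite_morphismRestrict_psi {P : Over S} (i : P ⟶ X) [IsOpenImmersion i.left] (aP : AlgGrp.Action G P)
    (haP : aP.act ≫ i = (G ◁ i) ≫ a.act)
    (hinv : a.act.left ⁻¹ᵁ i.left.opensRange = (snd G X).left ⁻¹ᵁ i.left.opensRange)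
    (hfin : IsFinite (GIT.psi aP (𝟙 P)).left) :
    IsFinite ((GIT.psi a (𝟙 X)).left ∣_
      ((fst X X).left ⁻¹ᵁ i.left.opensRange ⊓ (snd X X).left ⁻¹ᵁ i.left.opensRange)) := by
  haveI hR : IsOpenImmersion (i ▷ P).left :=
    MorphismProperty.of_isPullback (P := @IsOpenImmersion) (H20GQ.isPullback_whiskerRight i P) inferInstance
  haveI hL : IsOpenImmersion (X ◁ i).left :=
    MorphismProperty.of_isPullback (P := @IsOpenImmersion) (H20GQ.isPullback_whiskerLeft i X) inferInstance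
  haveI hG : IsOpenImmersion (G ◁ i).left :=
    MorphismProperty.of_isPullback (P := @IsOpenImmersion) (H20GQ.isPullback_whiskerLeft i G) inferInstance
  haveI : IsOpenImmersion (i ⊗ₘ i).left := by
    rw [MonoidalCategory.tensorHom_def, Over.comp_left]
    infer_instance
  have hO : (i ⊗ₘ i).left.opensRange = (fst X X).left ⁻¹ᵁ i.left.opensRange ⊓ (snd X X).left ⁻¹ᵁ i.left.opensRange :=
    Opens.ext (range_tensor i)
  have hsq : GIT.psi aP (𝟙 P) ≫ (i ⊗ₘ i) = (G ◁ i) ≫ GIT.psi a (𝟙 X) := by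
    apply CartesianMonoidalCategory.hom_ext <;> simp [GIT.psi, haP]
  have hpb : IsPullback (GIT.psi aP (𝟙 P)).left (G ◁ i).left (i ⊗ₘ i).left (GIT.psi a (𝟙 X)).left := by
    refine IsOpenImmersion.isPullback _ _ _ _ (congrArg (fun m : G ⊗ P ⟶ X ⊗ X => m.left) hsq.symm) ?_
    have e1 : (G ◁ i).left.opensRange = (snd G X).left ⁻¹ᵁ i.left.opensRange := Opens.ext (range_whiskerLeft i G)
    rw [e1, hO, Scheme.Hom.preimage_inf, ← Scheme.Hom.comp_preimage, ← Scheme.Hom.comp_preimage, ← Over.comp_left,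
      ← Over.comp_left]
    simp only [GIT.psi, lift_fst, lift_snd, whiskerLeft_id, Category.id_comp]
    rw [hinv, inf_idem]
  rw [← hO]
  refine ((MorphismProperty.arrow_mk_iso_iff @IsFinite
    (morphismRestrictOpensRange (GIT.psi a (𝟙 X)).left (i ⊗ₘ i).left)).2 ?_)
  rw [← MorphismProperty.cancel_left_of_respectsIso @IsFinite hpb.flip.isoPullback.hom, IsPullback.isoPullback_hom_snd]
  exact hfin

/-- Finiteness of the action map is local over an invariant morphism to a separated scheme. -/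
theorem isFinite_psi_of_cover {Y : Over S} [IsSeparated Y.hom] (φ : X ⟶ Y) (hi : GIT.IsInvariant a φ) {J : Type v}
    (V : J → Y.left.Opens) (hV : ∀ x, ∃ j, φ.left x ∈ V j)
    (h : ∀ j, ∃ aj : AlgGrp.Action G (resObj X (φ.left ⁻¹ᵁ V j)),
      aj.act ≫ resIncl X _ = (G ◁ resIncl X _) ≫ a.act ∧ IsFinite (GIT.psi aj (𝟙 _)).left) :
    IsFinite (GIT.psi a (𝟙 X)).left := by
  let δ : Y ⟶ Y ⊗ Y := lift (𝟙 Y) (𝟙 Y)
  let q : X ⊗ X ⟶ Y ⊗ Y := φ ⊗ₘ φ
  haveI : IsClosedImmersion δ.left := by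
    haveI : IsSeparated (snd Y Y).left := inferInstanceAs (IsSeparated (pullback.snd Y.hom Y.hom))
    haveI : IsClosedImmersion (δ.left ≫ (snd Y Y).left) := by
      rw [← Over.comp_left, lift_snd]
      exact inferInstanceAs (IsClosedImmersion (𝟙 Y.left))
    exact IsClosedImmersion.of_comp _ (snd Y Y).left
  let E : (X ⊗ X).left.Opens := ⟨(q.left ⁻¹' Set.range δ.left)ᶜ,
    (δ.left.isClosedEmbedding.isClosed_range.preimage q.left.continuous).isOpen_compl⟩
  have hE : GIT.psi a (𝟙 X) ≫ q = (snd G X ≫ φ) ≫ δ := by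
    apply CartesianMonoidalCategory.hom_ext
    · simp [q, δ, GIT.psi]
      exact hi
    · simp [q, δ, GIT.psi]
  let O : Option J → (X ⊗ X).left.Opens := fun j => j.elim E fun j =>
    (fst X X).left ⁻¹ᵁ (φ.left ⁻¹ᵁ V j) ⊓ (snd X X).left ⁻¹ᵁ (φ.left ⁻¹ᵁ V j)
  have hcov : iSup O = ⊤ := by
    refine top_le_iff.1 fun z _ => Opens.mem_iSup.2 ?_
    by_cases hz : q.left z ∈ Set.range δ.left
    · obtain ⟨y, hy⟩ := hz
      obtain ⟨j, hj⟩ := hV ((fst X X).left z)
      have e1 : φ.left ((fst X X).left z) = y := by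
        have := congrArg (fst Y Y).left hy
        rw [← Scheme.Hom.comp_apply, ← Scheme.Hom.comp_apply, ← Over.comp_left, ← Over.comp_left] at this
        simpa [q, δ] using this.symm
      have e2 : φ.left ((snd X X).left z) = y := by
        have := congrArg (snd Y Y).left hy
        rw [← Scheme.Hom.comp_apply, ← Scheme.Hom.comp_apply, ← Over.comp_left, ← Over.comp_left] at this
        simpa [q, δ] using this.symm
      refine ⟨some j, hj, ?_⟩
      show φ.left ((snd X X).left z) ∈ V j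
      rw [e2, ← e1]
      exact hj
    · exact ⟨none, hz⟩
  refine IsZariskiLocalAtTarget.of_iSup_eq_top (P := @IsFinite) O hcov fun j => ?_
  cases j with
  | none =>
    haveI : IsEmpty ((GIT.psi a (𝟙 X)).left ⁻¹ᵁ O none).toScheme := ⟨fun w => w.2 ⟨(snd G X ≫ φ).left w.1, by
      rw [← Scheme.Hom.comp_apply, ← Scheme.Hom.comp_apply, ← Over.comp_left, ← Over.comp_left, hE]⟩⟩
    exact inferInstanceAs (IsFinite ((GIT.psi a (𝟙 X)).left ∣_ O none))
  | some j =>
    obtain ⟨aj, haj, hfin⟩ := h j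
    haveI : IsOpenImmersion (resIncl X (φ.left ⁻¹ᵁ V j)).left :=
      inferInstanceAs (IsOpenImmersion (φ.left ⁻¹ᵁ V j).ι)
    have hr : (resIncl X (φ.left ⁻¹ᵁ V j)).left.opensRange = φ.left ⁻¹ᵁ V j := Scheme.Opens.opensRange_ι _
    have hm := isFinite_morphismRestrict_psi (a := a) (resIncl X (φ.left ⁻¹ᵁ V j)) aj haj (by
      rw [hr, ← Scheme.Hom.comp_preimage, ← Scheme.Hom.comp_preimage, ← Over.comp_left, ← Over.comp_left, hi]) hfin
    rw [hr] at hm
    exact hm

theorem finite_fibre_of_mono {P : Over S} (i : P ⟶ X) [IsOpenImmersion i.left] (aP : AlgGrp.Action G P)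
    (haP : aP.act ≫ i = (G ◁ i) ≫ a.act) {T : Over S} (f : T ⟶ P)
    (h : ((GIT.psi a (f ≫ i)).left ⁻¹' Set.range (lift (f ≫ i) (𝟙 T)).left).Finite) :
    ((GIT.psi aP f).left ⁻¹' Set.range (lift f (𝟙 T)).left).Finite := by
  refine h.subset ?_
  rintro z ⟨t, ht⟩
  refine ⟨t, ?_⟩
  have e1 : GIT.psi a (f ≫ i) = GIT.psi aP f ≫ (i ▷ T) := by
    apply CartesianMonoidalCategory.hom_ext
    · simp [GIT.psi, whiskerLeft_comp_assoc, haP]
    · simp [GIT.psi]
  have e2 : lift (f ≫ i) (𝟙 T) = lift f (𝟙 T) ≫ (i ▷ T) := by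
    apply CartesianMonoidalCategory.hom_ext <;> simp
  rw [e1, e2, Over.comp_left, Over.comp_left, Scheme.Hom.comp_apply, Scheme.Hom.comp_apply, ht]

theorem isClosedAction_of_open {P : Over S} (i : P ⟶ X) [IsOpenImmersion i.left] (aP : AlgGrp.Action G P)
    (haP : aP.act ≫ i = (G ◁ i) ≫ a.act) (h : GIT.IsClosedAction a) : GIT.IsClosedAction aP :=
  H20SS.isClosedAction_of_closedOrbitsOn (W := i.left.opensRange) i (le_refl _) aP haP
    fun Ω _ _ T e f _ => (h Ω T e f).preimage continuous_subtype_val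

end

end Groth.Agent.H20Prop
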