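import Groth.Prelude.Def_W4bk4git07Quot
import Groth.Agent.H20LRQ.Bridge
import Groth.Agent.H17.AssPush
import Mathlib.AlgebraicGeometry.ZariskisMainTheorem
import Mathlib.AlgebraicGeometry.AlgClosed.Basic
import Mathlib.AlgebraicGeometry.Morphisms.Finite

/-!
An orbit map with closed image and finite fibre over the base point is finite.
-/

set_option autoImplicit false
set_option linter.style.haveILetI false
set_option backward.isDefEq.respectTransparency false

universe u

open CategoryTheory CategoryTheory.Limits MonoidalCategory CartesianMonoidalCategory MonObj GrpObj AlgebraicGeometry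
  TopologicalSpace

namespace Groth.Agent.H20Prop

noncomputable section

/-- A quasi-finite morphism is finite near a maximal point of its image. -/
theorem exists_isFinite_near {X Y : Scheme.{u}} (f : X ⟶ Y) [LocallyQuasiFinite f] [LocallyOfFiniteType f]
    [IsSeparated f] [QuasiCompact f] [NoetherianSpace X] (ym : Y) (hmax : ∀ x, f x ⤳ ym → f x = ym) :
    ∃ W : Y.Opens, ym ∈ W ∧ IsFinite (f ∣_ W) := by
  let j := f.toNormalization
  let q := f.fromNormalization
  have hjq : j ≫ q = f := f.toNormalization_fromNormalization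
  let B : Set f.normalization := (Set.range j)ᶜ
  have hB : IsClosed B := j.isOpenEmbedding.isOpen_range.isClosed_compl
  let W : Y.Opens := ⟨(q '' B)ᶜ, (q.isClosedMap B hB).isOpen_compl⟩
  refine ⟨W, ?_, ?_⟩
  · rintro ⟨w, hw, hwym⟩
    obtain ⟨S, hSf, hSc, hSi, hS⟩ :=
      NoetherianSpace.exists_finite_set_isClosed_irreducible (isClosed_univ : IsClosed (Set.univ : Set X))
    have hwcl : w ∈ closure (Set.range j) := by
      rw [f.toNormalization.denseRange.closure_range]
      trivial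
    have hsub : Set.range j ⊆ ⋃ t ∈ S, j '' t := by
      rintro _ ⟨x, rfl⟩
      obtain ⟨t, ht, hxt⟩ := Set.mem_sUnion.1 (hS.subset (Set.mem_univ x))
      exact Set.mem_biUnion ht ⟨x, hxt, rfl⟩
    have hwcl' := closure_mono hsub hwcl
    rw [hSf.closure_biUnion] at hwcl'
    obtain ⟨t, ht, hwt⟩ := Set.mem_iUnion₂.1 hwcl'
    obtain ⟨p, hp⟩ := QuasiSober.sober (hSi t ht) (hSc t ht)
    have hjp : j p ⤳ w := by
      rw [specializes_iff_mem_closure]
      refine closure_minimal ?_ isClosed_closure hwt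
      rintro _ ⟨x, hx, rfl⟩
      exact specializes_iff_mem_closure.1 (((isGenericPoint_iff_specializes.1 hp x).2 hx).map j.continuous)
    have hfp : f p = ym := hmax p (by
      rw [← hjq, Scheme.Hom.comp_apply, ← hwym]
      exact hjp.map q.continuous)
    have : j p = w := H17.AssPts.eq_of_specializes_of_map_eq q hjp (by
      rw [← Scheme.Hom.comp_apply, hjq, hfp, hwym])
    exact hw ⟨p, this⟩
  · haveI : IsIso (j ∣_ (q ⁻¹ᵁ W)) := by
      refine (isIso_iff_isOpenImmersion_and_surjective _).2 ⟨inferInstance, ⟨fun z => ?_⟩⟩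
      have hz : z.1 ∈ Set.range j := by
        by_contra h
        exact z.2 ⟨z.1, h, rfl⟩
      obtain ⟨x, hx⟩ := hz
      refine ⟨⟨x, show j x ∈ q ⁻¹ᵁ W from hx ▸ z.2⟩, ?_⟩
      apply Subtype.ext
      rw [morphismRestrict_base]
      exact hx
    rw [IsFinite.iff_isIntegralHom_and_locallyOfFiniteType]
    refine ⟨?_, inferInstance⟩
    rw [← hjq, morphismRestrict_comp]
    infer_instance

theorem finite_restrict_congr {X Y : Scheme.{u}} {f g : X ⟶ Y} (h : f = g) (W : Y.Opens) (hf : IsFinite (f ∣_ W)) :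
    IsFinite (g ∣_ W) := by
  subst h
  exact hf

variable {k : Type u} [Field k] {G X : Over (Spec (CommRingCat.of k))} [GrpObj G] (a : AlgGrp.Action G X)
  {T : Over (Spec (CommRingCat.of k))}

/-- Translation of the target over `T`. -/
def tgtMove (g : T ⟶ G) : X ⊗ T ⟶ X ⊗ T := lift (lift (snd X T ≫ g) (fst X T) ≫ a.act) (snd X T)

/-- Translation of the source over `T`. -/
def srcMove (g : T ⟶ G) : G ⊗ T ⟶ G ⊗ T := lift ((snd G T ≫ g) * fst G T) (snd G T)

theorem tgtMove_comp (g h : T ⟶ G) : tgtMove a g ≫ tgtMove a h = tgtMove a (h * g) := by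
  apply CartesianMonoidalCategory.hom_ext
  · simp only [tgtMove, Category.assoc, lift_fst, comp_lift_assoc, lift_snd_assoc]
    rw [MonObj.comp_mul, H20LRQ.lift_mul_act]
  · simp [tgtMove]

theorem tgtMove_one : tgtMove (X := X) a (1 : T ⟶ G) = 𝟙 _ := by
  apply CartesianMonoidalCategory.hom_ext
  · rw [tgtMove, lift_fst, MonObj.comp_one, H20LRQ.lift_one_act, Category.id_comp]
  · simp [tgtMove]

theorem srcMove_comp (g h : T ⟶ G) : srcMove g ≫ srcMove h = srcMove (h * g) := by
  apply CartesianMonoidalCategory.hom_ext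
  · simp only [srcMove, Category.assoc, lift_fst, MonObj.comp_mul, lift_snd_assoc]
    rw [_root_.mul_assoc]
  · simp [srcMove]

theorem srcMove_one : srcMove (1 : T ⟶ G) = 𝟙 _ := by
  apply CartesianMonoidalCategory.hom_ext
  · rw [srcMove, lift_fst, MonObj.comp_one, _root_.one_mul, Category.id_comp]
  · simp [srcMove]

theorem psi_tgtMove (f : T ⟶ X) (g : T ⟶ G) : GIT.psi a f ≫ tgtMove a g = srcMove g ≫ GIT.psi a f := by
  apply CartesianMonoidalCategory.hom_ext
  · simp only [GIT.psi, tgtMove, srcMove, Category.assoc, lift_fst, comp_lift_assoc, lift_snd_assoc,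
      lift_whiskerLeft_assoc]
    rw [H20LRQ.lift_mul_act]
    congr 2
  · simp [GIT.psi, tgtMove, srcMove]

theorem lift_psi (f : T ⟶ X) (g : T ⟶ G) : lift g (𝟙 T) ≫ GIT.psi a f = lift f (𝟙 T) ≫ tgtMove a g := by
  apply CartesianMonoidalCategory.hom_ext
  · simp [GIT.psi, tgtMove, lift_whiskerLeft_assoc, comp_lift_assoc]
  · simp [GIT.psi, tgtMove]

instance isIso_tgtMove (g : T ⟶ G) : IsIso (tgtMove a g).left := by
  refine ⟨(tgtMove a g⁻¹).left, ?_, ?_⟩ <;> rw [← Over.comp_left, tgtMove_comp]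
  · rw [inv_mul_cancel, tgtMove_one]; rfl
  · rw [mul_inv_cancel, tgtMove_one]; rfl

instance isIso_srcMove (g : T ⟶ G) : IsIso (srcMove g).left := by
  refine ⟨(srcMove g⁻¹).left, ?_, ?_⟩ <;> rw [← Over.comp_left, srcMove_comp]
  · rw [inv_mul_cancel, srcMove_one]; rfl
  · rw [mul_inv_cancel, srcMove_one]; rfl

/-- Closed points of a scheme of finite type over `T = Spec Ω` are sections. -/
theorem exists_section {Ω : Type u} [Field Ω] [IsAlgClosed Ω] (e : T.left ≅ Spec (CommRingCat.of Ω))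
    {P : Over (Spec (CommRingCat.of k))} (π : P ⟶ T) [LocallyOfFiniteType π.left] {z : P.left} (hz : IsClosed {z}) :
    ∃ s : T ⟶ P, s ≫ π = 𝟙 T ∧ ∀ t, s.left t = z := by
  let sc := pointOfClosedPoint (π.left ≫ e.hom) z hz
  have h := pointOfClosedPoint_comp (π.left ≫ e.hom) z hz
  have hs : (e.hom ≫ sc) ≫ π.left = 𝟙 _ := by
    rw [← cancel_mono e.hom, Category.assoc, Category.assoc, h, Category.comp_id, Category.id_comp]
  refine ⟨Over.homMk (e.hom ≫ sc) (by rw [← Over.w π, ← Category.assoc, hs, Category.id_comp]),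
    Over.OverMorphism.ext hs, fun t => ?_⟩
  show sc (e.hom t) = z
  exact pointOfClosedPoint_apply _ _ hz _

/-- An orbit map with closed image and finite fibre over the base point is finite. -/
theorem isFinite_psi_of_point {Ω : Type u} [Field Ω] [IsAlgClosed Ω] (e : T.left ≅ Spec (CommRingCat.of Ω))
    [LocallyOfFiniteType G.hom] [QuasiCompact G.hom] [IsSeparated G.hom] [LocallyOfFiniteType X.hom]
    [IsSeparated X.hom] (f : T ⟶ X) (hcl : IsClosed (Set.range (GIT.psi a f).left))
    (hfin : ((GIT.psi a f).left ⁻¹' Set.range (lift f (𝟙 T)).left).Finite) :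
    IsFinite (GIT.psi a f).left := by
  let ψ := GIT.psi a f
  haveI : LocallyOfFiniteType (snd G T).left := inferInstanceAs (LocallyOfFiniteType (pullback.snd G.hom T.hom))
  haveI : LocallyOfFiniteType (snd X T).left := inferInstanceAs (LocallyOfFiniteType (pullback.snd X.hom T.hom))
  haveI : QuasiCompact (snd G T).left := inferInstanceAs (QuasiCompact (pullback.snd G.hom T.hom))
  haveI : IsSeparated (snd G T).left := inferInstanceAs (IsSeparated (pullback.snd G.hom T.hom))
  haveI : IsSeparated (snd X T).left := inferInstanceAs (IsSeparated (pullback.snd X.hom T.hom))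
  have hw : ψ.left ≫ (snd X T).left = (snd G T).left := by
    rw [← Over.comp_left]
    simp [ψ, GIT.psi]
  haveI : LocallyOfFiniteType (ψ.left ≫ (snd X T).left) := by rw [hw]; infer_instance
  haveI : LocallyOfFiniteType ψ.left := locallyOfFiniteType_of_comp _ (snd X T).left
  haveI : QuasiCompact (ψ.left ≫ (snd X T).left) := by rw [hw]; infer_instance
  haveI : QuasiCompact ψ.left := QuasiCompact.of_comp _ (snd X T).left
  haveI : IsSeparated (ψ.left ≫ (snd X T).left) := by rw [hw]; infer_instance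
  haveI : IsSeparated ψ.left := IsSeparated.of_comp _ (snd X T).left
  haveI : JacobsonSpace (G ⊗ T).left := LocallyOfFiniteType.jacobsonSpace ((snd G T).left ≫ e.hom)
  haveI : JacobsonSpace (X ⊗ T).left := LocallyOfFiniteType.jacobsonSpace ((snd X T).left ≫ e.hom)
  haveI : NoetherianSpace (G ⊗ T).left := by
    haveI : IsLocallyNoetherian (G ⊗ T).left := LocallyOfFiniteType.isLocallyNoetherian ((snd G T).left ≫ e.hom)
    haveI : CompactSpace (G ⊗ T).left := QuasiCompact.compactSpace_of_compactSpace ((snd G T).left ≫ e.hom)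
    haveI : IsNoetherian (G ⊗ T).left := {}
    infer_instance
  obtain ⟨t₀⟩ : Nonempty T.left := ⟨e.inv (IsLocalRing.closedPoint Ω)⟩
  haveI : Subsingleton T.left := ⟨fun x y => e.hom.isOpenEmbedding.injective (Subsingleton.elim _ _)⟩
  let z₀ := (lift f (𝟙 T)).left t₀
  have hz₀ : Set.range (lift f (𝟙 T)).left = {z₀} := by
    ext z
    exact ⟨fun ⟨t, ht⟩ => ht ▸ congrArg _ (Subsingleton.elim t t₀), fun h => ⟨t₀, h.symm⟩⟩
  have hpt : ∀ p : (G ⊗ T).left, IsClosed {p} → ∃ g : T ⟶ G, ψ.left p = (tgtMove a g).left z₀ := by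
    intro p hp
    obtain ⟨s, hs, hsp⟩ := exists_section e (snd G T) hp
    have he : s = lift (s ≫ fst G T) (𝟙 T) := by
      apply CartesianMonoidalCategory.hom_ext <;> simp [hs]
    refine ⟨s ≫ fst G T, ?_⟩
    rw [← hsp t₀, ← Scheme.Hom.comp_apply, ← Over.comp_left, he, lift_psi, ← he, Over.comp_left, Scheme.Hom.comp_apply]
  have hlift : ∀ z ∈ Set.range ψ.left, IsClosed {z} → ∃ p, IsClosed {p} ∧ ψ.left p = z := by
    intro z hz hzc
    obtain ⟨p, hp, hpc⟩ := nonempty_inter_closedPoints (Z := ψ.left ⁻¹' {z})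
      (by obtain ⟨p, hp⟩ := hz; exact ⟨p, hp⟩) (hzc.preimage ψ.left.continuous).isLocallyClosed
    exact ⟨p, hpc, hp⟩
  have hmove : ∀ (g : T ⟶ G) z, ψ.left ⁻¹' {(tgtMove a g).left z} = (srcMove g).left '' (ψ.left ⁻¹' {z}) := by
    intro g z
    have hc : ∀ x, (tgtMove a g).left (ψ.left x) = ψ.left ((srcMove g).left x) := fun x => by
      rw [← Scheme.Hom.comp_apply, ← Over.comp_left, psi_tgtMove, Over.comp_left, Scheme.Hom.comp_apply]
    ext p
    constructor
    · intro hp
      obtain ⟨x, rfl⟩ := (srcMove g).left.surjective p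
      refine ⟨x, (tgtMove a g).left.isOpenEmbedding.injective ?_, rfl⟩
      rw [hc]
      exact hp
    · rintro ⟨x, hx, rfl⟩
      show ψ.left ((srcMove g).left x) = _
      rw [← hc, show ψ.left x = z from hx]
  haveI : LocallyQuasiFinite ψ.left := by
    rw [← Scheme.Hom.quasiFiniteLocus_eq_top_iff]
    refine top_le_iff.1 fun p _ => ?_
    by_contra hp
    obtain ⟨c, hc, hcc⟩ := nonempty_inter_closedPoints (Z := (ψ.left.quasiFiniteLocus : Set (G ⊗ T).left)ᶜ) ⟨p, hp⟩
      ψ.left.quasiFiniteLocus.isOpen.isClosed_compl.isLocallyClosed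
    obtain ⟨g, hg⟩ := hpt c hcc
    have hf : (ψ.left ⁻¹' {ψ.left c}).Finite := by
      rw [hg, hmove]
      exact (hz₀ ▸ hfin).image _
    haveI : Finite (ψ.left.fiber (ψ.left c)) := (ψ.left.fiberHomeo (ψ.left c)).finite_iff.mpr hf.to_subtype
    haveI : LocallyOfFiniteType (ψ.left.fiberToSpecResidueField (ψ.left c)) :=
      MorphismProperty.pullback_snd (P := @LocallyOfFiniteType) _ _ inferInstance
    haveI : JacobsonSpace (ψ.left.fiber (ψ.left c)) :=
      LocallyOfFiniteType.jacobsonSpace (ψ.left.fiberToSpecResidueField _)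
    exact hc (Scheme.Hom.quasiFiniteAt_iff_isOpen_singleton_asFiber.mpr (isOpen_discrete _))
  have hz₀mem : z₀ ∈ Set.range ψ.left := ⟨(lift (1 : T ⟶ G) (𝟙 T)).left t₀, by
    rw [← Scheme.Hom.comp_apply, ← Over.comp_left, lift_psi, tgtMove_one, Category.comp_id]⟩
  let Z := Set.range ψ.left
  obtain ⟨ym, hymZ, hymmax⟩ : ∃ ym ∈ Z, ∀ y ∈ Z, y ⤳ ym → y = ym := by
    let x : Z := ⟨z₀, hz₀mem⟩
    haveI : QuasiSober Z := hcl.isClosedEmbedding_subtypeVal.quasiSober
    obtain ⟨ξ, hξ⟩ := QuasiSober.sober (isIrreducible_irreducibleComponent (x := x)) isClosed_irreducibleComponent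
    refine ⟨ξ.1, ξ.2, fun y hy hs => ?_⟩
    have hs' : (⟨y, hy⟩ : Z) ⤳ ξ := (subtype_specializes_iff _ _).2 hs
    have hsub : irreducibleComponent x ⊆ closure {(⟨y, hy⟩ : Z)} := by
      rw [← hξ.def]
      exact hs'.closure_subset
    have heq := (irreducibleComponent_mem_irreducibleComponents x).eq_of_subset isIrreducible_singleton.closure hsub
    exact congrArg Subtype.val ((hξ.eq (show IsGenericPoint (⟨y, hy⟩ : Z) (irreducibleComponent x) from heq.symm)).symm)
  obtain ⟨W, hymW, hW⟩ := exists_isFinite_near ψ.left ym (fun x => hymmax _ ⟨x, rfl⟩)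
  obtain ⟨z₁, ⟨hz₁W, hz₁Z⟩, hz₁c⟩ := nonempty_inter_closedPoints (Z := (W : Set (X ⊗ T).left) ∩ Z) ⟨ym, hymW, hymZ⟩
    (W.isOpen.isLocallyClosed.inter hcl.isLocallyClosed)
  let O : Option (T ⟶ G) → (X ⊗ T).left.Opens := fun g => g.elim ⟨Zᶜ, hcl.isOpen_compl⟩ fun g => (tgtMove a g).left ⁻¹ᵁ W
  have hcov : iSup O = ⊤ := by
    refine top_le_iff.1 fun y _ => ?_
    by_contra hy
    obtain ⟨c, hc, hcc⟩ := nonempty_inter_closedPoints (Z := ((iSup O : (X ⊗ T).left.Opens) : Set (X ⊗ T).left)ᶜ)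
      ⟨y, hy⟩ (iSup O).isOpen.isClosed_compl.isLocallyClosed
    refine hc (Opens.mem_iSup.2 ?_)
    by_cases hcZ : c ∈ Z
    · obtain ⟨p₁, hp₁, hp₁'⟩ := hlift z₁ hz₁Z hz₁c
      obtain ⟨p, hp, hp'⟩ := hlift c hcZ hcc
      obtain ⟨g₁, hg₁⟩ := hpt p₁ hp₁
      obtain ⟨g, hg⟩ := hpt p hp
      refine ⟨some (g₁ * g⁻¹), ?_⟩
      show (tgtMove a (g₁ * g⁻¹)).left c ∈ W
      rw [← hp', hg, ← Scheme.Hom.comp_apply, ← Over.comp_left, tgtMove_comp, inv_mul_cancel_right, ← hg₁, hp₁']
      exact hz₁W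
    · exact ⟨none, hcZ⟩
  refine IsZariskiLocalAtTarget.of_iSup_eq_top (P := @IsFinite) O hcov fun g => ?_
  cases g with
  | none =>
    haveI : IsEmpty (ψ.left ⁻¹ᵁ O none).toScheme := ⟨fun x => x.2 ⟨x.1, rfl⟩⟩
    exact inferInstanceAs (IsFinite (ψ.left ∣_ O none))
  | some g =>
    show IsFinite (ψ.left ∣_ (tgtMove a g).left ⁻¹ᵁ W)
    refine (MorphismProperty.cancel_right_of_respectsIso @IsFinite _ ((tgtMove a g).left ∣_ W)).1 ?_
    rw [← morphismRestrict_comp]
    exact finite_restrict_congr (congrArg (fun m : G ⊗ T ⟶ X ⊗ T => m.left) (psi_tgtMove a f g)).symm W (by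
      rw [Over.comp_left, morphismRestrict_comp, MorphismProperty.cancel_left_of_respectsIso @IsFinite]
      exact hW)

end

end Groth.Agent.H20Prop
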