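import Groth.Agent.H20Prop.Scheme
import Groth.Agent.H20Prop.OrbitFinite
import Groth.Agent.H20GIT.Stab
import Mathlib.FieldTheory.IsAlgClosed.AlgebraicClosure

/-!
A reductive action on an affine scheme with closed orbits and finite stabilisers is finite.
-/

set_option autoImplicit false
set_option linter.style.haveILetI false
set_option backward.isDefEq.respectTransparency false

universe u

open CategoryTheory CategoryTheory.Limits MonoidalCategory CartesianMonoidalCategory MonObj GrpObj AlgebraicGeometry
  TopologicalSpace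

namespace Groth.Agent.H20Prop

noncomputable section

/-- Integral morphisms are detected after a surjective cover, for affine morphisms. -/
theorem isFinite_of_comp_surjective {P Q R : Scheme.{u}} (g : P ⟶ Q) [Surjective g] (f : Q ⟶ R)
    [IsAffineHom f] [LocallyOfFiniteType f] [UniversallyClosed (g ≫ f)] : IsFinite f := by
  haveI := UniversallyClosed.of_comp_surjective g f
  rw [IsFinite.iff_isIntegralHom_and_locallyOfFiniteType]
  exact ⟨IsIntegralHom.iff_universallyClosed_and_isAffineHom.2 ⟨inferInstance, inferInstance⟩, inferInstance⟩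

variable {k : Type u} [Field k] {G X : Over (Spec (CommRingCat.of k))} [GrpObj G] (a : AlgGrp.Action G X)

/-- Finite stabilisers have finite fibres in the orbit map. -/
theorem finite_fibre_of_stab [LocallyOfFiniteType G.hom] [QuasiCompact G.hom] [IsSeparated X.hom]
    [LocallyQuasiFinite (GLinSh.stabTo a (𝟙 X))] {T : Over (Spec (CommRingCat.of k))} {Ω : Type u} [Field Ω]
    (e : T.left ≅ Spec (CommRingCat.of Ω)) (f : T ⟶ X) :
    ((GIT.psi a f).left ⁻¹' Set.range (lift f (𝟙 T)).left).Finite := by
  obtain ⟨m, hm⟩ := H20GIT.exists_isPullback_stab a f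
  haveI : LocallyQuasiFinite (GLinSh.stabTo a f) :=
    MorphismProperty.of_isPullback (P := @LocallyQuasiFinite) hm inferInstance
  haveI : QuasiCompact (snd G T).left := inferInstanceAs (QuasiCompact (pullback.snd G.hom T.hom))
  haveI : IsClosedImmersion (lift f (𝟙 T)).left := by
    haveI : IsSeparated (snd X T).left := inferInstanceAs (IsSeparated (pullback.snd X.hom T.hom))
    haveI : IsClosedImmersion ((lift f (𝟙 T)).left ≫ (snd X T).left) := by
      rw [← Over.comp_left, lift_snd]
      exact inferInstanceAs (IsClosedImmersion (𝟙 T.left))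
    exact IsClosedImmersion.of_comp _ (snd X T).left
  haveI : QuasiCompact (GLinSh.stabTo a f) := by
    rw [← H20GIT.fst_snd_eq a f]
    infer_instance
  haveI : Subsingleton T.left := ⟨fun x y => e.hom.isOpenEmbedding.injective (Subsingleton.elim _ _)⟩
  obtain ⟨t⟩ : Nonempty T.left := ⟨e.inv (IsLocalRing.closedPoint Ω)⟩
  haveI : Finite (GLinSh.stab a f) := by
    refine Set.finite_univ_iff.1 ?_
    refine ((GLinSh.stabTo a f).finite_preimage_singleton t).subset fun x _ => ?_
    exact Subsingleton.elim _ t
  rw [← Scheme.Pullback.range_fst (GIT.psi a f).left (lift f (𝟙 T)).left]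
  haveI : Finite ↥(pullback (GIT.psi a f).left (lift f (𝟙 T)).left) := ‹Finite (GLinSh.stab a f)›
  exact Set.finite_range _

/-- The orbit maps of all field valued points are finite if those of geometric points are. -/
theorem isFinite_psi_of_geometric [IsAffineHom G.hom] [LocallyOfFiniteType G.hom] [IsAffine X.left]
    [LocallyOfFiniteType X.hom]
    (h : ∀ (Ω : Type u) [Field Ω] [IsAlgClosed Ω] (T : Over (Spec (CommRingCat.of k)))
      (_ : T.left ≅ Spec (CommRingCat.of Ω)) (f : T ⟶ X), IsFinite (GIT.psi a f).left)
    (K : Type u) [Field K] (T : Over (Spec (CommRingCat.of k))) (e : T.left ≅ Spec (CommRingCat.of K))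
    (x : T ⟶ X) : IsFinite (GIT.psi a x).left := by
  let c : CommRingCat.of K ⟶ CommRingCat.of (AlgebraicClosure K) :=
    CommRingCat.ofHom (algebraMap K (AlgebraicClosure K))
  let T' : Over (Spec (CommRingCat.of k)) := Over.mk (Spec.map c ≫ e.inv ≫ T.hom)
  let g : T' ⟶ T := Over.homMk (Spec.map c ≫ e.inv) (by simp [T'])
  haveI : IsIntegralHom (Spec.map c) :=
    IsIntegralHom.SpecMap_iff.2 (algebraMap_isIntegral_iff.2 inferInstance)
  haveI : IsIntegralHom g.left := inferInstanceAs (IsIntegralHom (Spec.map c ≫ e.inv))
  haveI : Surjective g.left := ⟨fun t => ⟨IsLocalRing.closedPoint (AlgebraicClosure K), by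
    haveI : Subsingleton T.left := ⟨fun x y => e.hom.isOpenEmbedding.injective (Subsingleton.elim _ _)⟩
    exact Subsingleton.elim _ _⟩⟩
  haveI : IsIntegralHom (X ◁ g).left :=
    MorphismProperty.of_isPullback (P := @IsIntegralHom) (H20GQ.isPullback_whiskerLeft g X) inferInstance
  haveI : Surjective (G ◁ g).left :=
    MorphismProperty.of_isPullback (P := @Surjective) (H20GQ.isPullback_whiskerLeft g G) inferInstance
  haveI : IsFinite (GIT.psi a (g ≫ x)).left := h (AlgebraicClosure K) T' (Iso.refl _) (g ≫ x)
  have hw : GIT.psi a (g ≫ x) ≫ (X ◁ g) = (G ◁ g) ≫ GIT.psi a x := by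
    apply CartesianMonoidalCategory.hom_ext <;> simp [GIT.psi]
  haveI : UniversallyClosed ((G ◁ g).left ≫ (GIT.psi a x).left) := by
    rw [← Over.comp_left, ← hw, Over.comp_left]
    infer_instance
  have hsnd : (GIT.psi a x).left ≫ (snd X T).left = (snd G T).left := by
    rw [← Over.comp_left, H20GIT.psi_snd]
  haveI : IsAffineHom X.hom := isAffineHom_of_isAffine _
  haveI : IsAffineHom (snd X T).left := MorphismProperty.pullback_snd (P := @IsAffineHom) X.hom T.hom inferInstance
  haveI : IsAffineHom (snd G T).left := MorphismProperty.pullback_snd (P := @IsAffineHom) G.hom T.hom inferInstance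
  haveI : LocallyOfFiniteType (snd G T).left := inferInstanceAs (LocallyOfFiniteType (pullback.snd G.hom T.hom))
  haveI : LocallyOfFiniteType ((GIT.psi a x).left ≫ (snd X T).left) := by rw [hsnd]; infer_instance
  haveI : LocallyOfFiniteType (GIT.psi a x).left := locallyOfFiniteType_of_comp _ (snd X T).left
  haveI : IsAffineHom ((GIT.psi a x).left ≫ (snd X T).left) := by rw [hsnd]; infer_instance
  haveI : IsAffineHom (GIT.psi a x).left := IsAffineHom.of_comp _ (snd X T).left
  exact isFinite_of_comp_surjective (G ◁ g).left (GIT.psi a x).left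

/-- A reductive action on an affine scheme with closed orbits and finite stabilisers is finite. -/
theorem isFinite_psi_of_closed [CharZero k] (hG : Red.IsReductive G) [IsAffine X.left] [LocallyOfFiniteType X.hom]
    (hcl : GIT.IsClosedAction a)
    (hst : ∀ (Ω : Type u) [Field Ω] [IsAlgClosed Ω] (T : Over (Spec (CommRingCat.of k)))
      (_ : T.left ≅ Spec (CommRingCat.of Ω)) (f : T ⟶ X),
        ((GIT.psi a f).left ⁻¹' Set.range (lift f (𝟙 T)).left).Finite) :
    IsFinite (GIT.psi a (𝟙 X)).left := by
  haveI : IsAffineHom G.hom := hG.1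
  haveI : Smooth G.hom := hG.2.1
  haveI : IsAffineHom X.hom := isAffineHom_of_isAffine _
  exact isFinite_psi_of_orbits a hG (isFinite_psi_of_geometric a fun Ω _ _ T e f =>
    isFinite_psi_of_point a e f (hcl Ω T e f) (hst Ω T e f))

end

end Groth.Agent.H20Prop
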