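import Groth.Agent.H20GQ.Orbit
import Groth.Agent.H20GIT.Stab
import Groth.Agent.H20Prop.Local

/-!
Orbit closedness descends along an equivariant geometric quotient by a normal subgroup.
-/

set_option autoImplicit false
set_option linter.style.haveILetI false
set_option backward.isDefEq.respectTransparency false

universe u

open CategoryTheory CategoryTheory.Limits MonoidalCategory CartesianMonoidalCategory MonObj GrpObj AlgebraicGeometry
  TopologicalSpace

namespace Groth.Agent.H20Prop

noncomputable section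

variable {S : Scheme.{u}} {H N Q X Y T : Over S} [GrpObj H] [GrpObj N] [GrpObj Q]
  (i : N ⟶ H) (q : H ⟶ Q) (a : AlgGrp.Action H X) (aN : AlgGrp.Action N X) (π : X ⟶ Y) (aQ : AlgGrp.Action Q Y)

theorem psi_quot (hequiv : (q ⊗ₘ π) ≫ aQ.act = a.act ≫ π) (x : T ⟶ X) :
    (q ▷ T) ≫ GIT.psi aQ (x ≫ π) = GIT.psi a x ≫ (π ▷ T) := by
  apply CartesianMonoidalCategory.hom_ext
  · simp only [GIT.psi, Category.assoc, lift_fst, lift_fst_assoc, whiskerRight_fst, MonoidalCategory.whiskerLeft_comp]
    rw [← hequiv, MonoidalCategory.tensorHom_def]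
    simp only [Category.assoc, whisker_exchange_assoc]
  · simp [GIT.psi]

/-- The orbit of a point is saturated for the orbit space map of a normal subgroup. -/
theorem preimage_range_psi_quot (haN : aN.act = (i ▷ X) ≫ a.act) (hi : GIT.IsInvariant aN π)
    (ho : Function.Surjective (GIT.PsiY aN π hi).base)
    (hequiv : (q ⊗ₘ π) ≫ aQ.act = a.act ≫ π) [Surjective q.left] (x : T ⟶ X) :
    (π ▷ T).left ⁻¹' Set.range (GIT.psi aQ (x ≫ π)).left = Set.range (GIT.psi a x).left := by
  haveI : Surjective (q ▷ T).left :=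
    MorphismProperty.of_isPullback (P := @Surjective) (H20GQ.isPullback_whiskerRight q T) inferInstance
  ext z
  constructor
  · rintro ⟨w, hw⟩
    obtain ⟨w', rfl⟩ := (q ▷ T).left.surjective w
    let f : H ⊗ T ⟶ X := (H ◁ x) ≫ a.act
    have hsq : IsPullback (X ◁ snd H T).left (π ▷ (H ⊗ T)).left (π ▷ T).left (Y ◁ snd H T).left := by
      refine IsPullback.of_right ?_ ?_ (H20GQ.isPullback_whiskerRight π T)
      · have h1 := H20GQ.isPullback_whiskerRight π (H ⊗ T)
        rwa [← Over.comp_left, ← Over.comp_left, whiskerLeft_fst, whiskerLeft_fst]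
      · rw [← Over.comp_left, ← Over.comp_left, whisker_exchange]
    have hgraph : lift (f ≫ π) (𝟙 (H ⊗ T)) ≫ (Y ◁ snd H T) = GIT.psi a x ≫ (π ▷ T) := by
      apply CartesianMonoidalCategory.hom_ext <;> simp [GIT.psi, f]
    obtain ⟨ζ, hζz, hζ⟩ := Scheme.exists_preimage_of_isPullback hsq z ((lift (f ≫ π) (𝟙 (H ⊗ T))).left w') (by
      rw [← hw, ← Scheme.Hom.comp_apply, ← Scheme.Hom.comp_apply, ← Over.comp_left, ← Over.comp_left, hgraph,
        psi_quot q a π aQ hequiv])
    obtain ⟨u₀, hu⟩ := (H20GQ.range_psi hi ho f).ge (show ζ ∈ _ ⁻¹' _ from ⟨w', hζ.symm⟩)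
    refine ⟨(lift ((fst N (H ⊗ T) ≫ i) * (snd N (H ⊗ T) ≫ fst H T)) (snd N (H ⊗ T) ≫ snd H T)).left u₀, ?_⟩
    rw [← hζz, ← hu, ← Scheme.Hom.comp_apply, ← Scheme.Hom.comp_apply, ← Over.comp_left, ← Over.comp_left]
    refine congrArg (fun m : N ⊗ (H ⊗ T) ⟶ X ⊗ T => m.left u₀) ?_
    apply CartesianMonoidalCategory.hom_ext
    · simp only [GIT.psi, Category.assoc, lift_fst, lift_fst_assoc, lift_snd_assoc, lift_whiskerLeft_assoc,
        whiskerLeft_fst]
      rw [H20GIT.act_mul, haN, ← Category.assoc (N ◁ f)]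
      congr 1
      apply CartesianMonoidalCategory.hom_ext
      · simp
      · simp only [f, lift_snd, Category.assoc, whiskerRight_snd, whiskerLeft_snd, ← comp_lift_assoc]
        rw [← Category.assoc, ← Category.assoc]
        congr 1
    · simp [GIT.psi]
  · rintro ⟨w, rfl⟩
    exact ⟨(q ▷ T).left w, by
      rw [← Scheme.Hom.comp_apply, ← Scheme.Hom.comp_apply, ← Over.comp_left, ← Over.comp_left,
        psi_quot q a π aQ hequiv]⟩

end

end Groth.Agent.H20Prop
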