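import Groth.Agent.H20Prop.Finite
import Groth.Agent.H20LRQ.Bridge
import Groth.Agent.H20Red.Iso
import Mathlib.AlgebraicGeometry.Morphisms.Finite

/-!
Properness of a reductive group action on an affine scheme is tested on the orbit maps.
-/

set_option autoImplicit false
set_option linter.style.haveILetI false
set_option backward.isDefEq.respectTransparency false

universe u

open CategoryTheory MonoidalCategory CartesianMonoidalCategory MonObj GrpObj AlgebraicGeometry
open scoped TensorProduct

namespace Groth.Agent.H20Prop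

noncomputable section

open Groth.Agent.H20LRQ

section Cat

variable {S : Scheme.{u}} {G X G' X' : Over S} [GrpObj G] [GrpObj G'] (a : AlgGrp.Action G X)
  (v : G ≅ G') [IsMonHom v.inv] (u : X ≅ X') {T : Over S}

/-- `(t, g) ↦ (g⁻¹, t)`. -/
def invSwap : T ⊗ G' ⟶ G ⊗ T := lift (snd T G' ≫ v.inv)⁻¹ (fst T G')

/-- The orbit map of a right action. -/
def orbR (x : T ⟶ X') (r : X' ⊗ G' ⟶ X') : T ⊗ G' ⟶ T ⊗ X' := lift (fst T G') ((x ▷ G') ≫ r)

instance isIso_invSwap : IsIso (invSwap (T := T) v) := by
  refine ⟨lift (snd G T) ((fst G T)⁻¹ ≫ v.hom), ?_, ?_⟩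
  · apply CartesianMonoidalCategory.hom_ext
    · simp [invSwap]
    · simp only [invSwap, Category.assoc, lift_snd]
      rw [GrpObj.comp_inv_assoc, lift_fst, _root_.inv_inv, Category.assoc, Iso.inv_hom_id, Category.comp_id, Category.id_comp]
  · apply CartesianMonoidalCategory.hom_ext
    · rw [invSwap, Category.assoc, lift_fst, GrpObj.comp_inv, lift_snd_assoc, Category.assoc, Iso.hom_inv_id,
        Category.comp_id, _root_.inv_inv, Category.id_comp]
    · simp [invSwap]

theorem orbR_conjAct (x : T ⟶ X) :
    orbR (x ≫ u.hom) (conjAct a v u) = invSwap v ≫ GIT.psi a x ≫ (β_ X T).hom ≫ (T ◁ u.hom) := by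
  apply CartesianMonoidalCategory.hom_ext
  · simp [orbR, invSwap, GIT.psi]
  · rw [orbR, lift_snd, show (x ≫ u.hom) ▷ G' = lift (fst T G' ≫ x ≫ u.hom) (snd T G') from
      CartesianMonoidalCategory.hom_ext _ _ (by simp) (by simp), lift_conjAct]
    simp only [invSwap, GIT.psi, Category.assoc, whiskerLeft_snd, braiding_hom_snd_assoc, lift_fst_assoc,
      lift_whiskerLeft_assoc, Iso.hom_inv_id, Category.comp_id]

end Cat

variable {k : Type u} [Field k] {A : Type u} [CommRing A] [HopfAlgebra k A] {B : Type u} [CommRing B] [Algebra k B]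
  [HopfRep.Comod k A B] [GLin.IsCoactAlg k A B]

theorem univPair_orbR {K : Type u} [CommRing K] [Algebra k K] (f : B →ₐ[k] K) :
    univPair k A K ≫ orbR (CoactBr.pt f) (CoactBr.ract k A B) = CoactBr.pt (rho k A f) ≫ univPair k B K := by
  apply CartesianMonoidalCategory.hom_ext
  · simp only [orbR, univPair, Category.assoc, lift_fst, ← CoactBr.pt_comp]
    congr 1
    refine AlgHom.ext fun x => ?_
    simp [rho_tmul, GLin.IsCoactAlg.coact_one, Algebra.TensorProduct.one_def]
  · simp only [orbR, univPair, Category.assoc, lift_snd, ← CoactBr.pt_comp, lift_whiskerRight_assoc]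
    rw [CoactBr.lift_pt_ract]
    congr 1
    refine AlgHom.ext fun b => ?_
    rw [AlgHom.comp_apply, AlgHom.comp_apply, Algebra.TensorProduct.includeRight_apply, rho_tmul,
      ← Algebra.TensorProduct.one_def, _root_.one_mul, GLin.coactAlgHom_apply]
    induction HopfRep.Comod.coact (k := k) (A := A) b using TensorProduct.induction_on with
    | zero => simp
    | add x y hx hy => simp only [map_add, hx, hy]
    | tmul p q => simp

theorem isFinite_orbR_iff {K : Type u} [CommRing K] [Algebra k K] (f : B →ₐ[k] K) :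
    IsFinite (orbR (CoactBr.pt f) (CoactBr.ract k A B)).left ↔ (rho k A f).toRingHom.Finite := by
  haveI : IsIso (univPair k A K).left :=
    haveI := isIso_univPair (k := k) (A := A) (B := K)
    inferInstanceAs (IsIso ((Over.forget _).map (univPair k A K)))
  haveI : IsIso (univPair k B K).left :=
    haveI := isIso_univPair (k := k) (A := B) (B := K)
    inferInstanceAs (IsIso ((Over.forget _).map (univPair k B K)))
  rw [← MorphismProperty.cancel_left_of_respectsIso @IsFinite (univPair k A K).left, ← Over.comp_left,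
    univPair_orbR, Over.comp_left, MorphismProperty.cancel_right_of_respectsIso @IsFinite, CoactBr.pt_left]
  exact IsFinite.SpecMap_iff _

section Main

variable {G X : Over (Spec (CommRingCat.of k))} [GrpObj G] (a : AlgGrp.Action G X)

theorem isFinite_psi_iff {A' : Type u} [CommRing A'] [HopfAlgebra k A'] {B' : Type u} [CommRing B'] [Algebra k B']
    (v : G ≅ CoactBr.sp k A') [IsMonHom v.inv] (u : X ≅ CoactBr.sp k B') [HopfRep.Comod k A' B']
    [GLin.IsCoactAlg k A' B'] (hr : CoactBr.ract k A' B' = conjAct a v u)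
    {K : Type u} [CommRing K] [Algebra k K] (f : B' →ₐ[k] K) :
    IsFinite (GIT.psi a (CoactBr.pt f ≫ u.inv)).left ↔ (rho k A' f).toRingHom.Finite := by
  rw [← isFinite_orbR_iff f, hr]
  have h := orbR_conjAct a v u (CoactBr.pt f ≫ u.inv)
  rw [Category.assoc, Iso.inv_hom_id, Category.comp_id] at h
  rw [h, Over.comp_left, Over.comp_left]
  haveI : IsIso (invSwap (T := CoactBr.sp k K) v).left :=
    inferInstanceAs (IsIso ((Over.forget _).map (invSwap (T := CoactBr.sp k K) v)))
  haveI : IsIso ((β_ X (CoactBr.sp k K)).hom ≫ (CoactBr.sp k K ◁ u.hom)).left :=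
    inferInstanceAs (IsIso ((Over.forget _).map ((β_ X (CoactBr.sp k K)).hom ≫ (CoactBr.sp k K ◁ u.hom))))
  rw [MorphismProperty.cancel_left_of_respectsIso @IsFinite, MorphismProperty.cancel_right_of_respectsIso @IsFinite]

/-- A reductive action on an affine scheme with finite orbit maps is proper. -/
theorem isFinite_psi_of_orbits [CharZero k] (hG : Red.IsReductive G) [IsAffine X.left]
    (h : ∀ (K : Type u) [Field K] (T : Over (Spec (CommRingCat.of k))) (_ : T.left ≅ Spec (CommRingCat.of K))
      (x : T ⟶ X), IsFinite (GIT.psi a x).left) :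
    IsFinite (GIT.psi a (𝟙 X)).left := by
  haveI : IsAffine G.left := by
    haveI := hG.1
    exact isAffine_of_isAffineHom G.hom
  obtain ⟨A, _, _, v, _, _⟩ := exists_grp_model G
  obtain ⟨B, _, _, ⟨u⟩⟩ := exists_affine_model X
  obtain ⟨c, hc, hr⟩ := exists_coaction_of_action a v u
  letI := c
  haveI := hc
  obtain ⟨α, hα, h1⟩ := H20Comod.isLinearlyReductive_iff_exists_isIntegral.1
    (H20Red.isLinearlyReductive_of_iso_isReductive hG v)
  haveI : Algebra.FiniteType k A := by
    haveI : Smooth G.hom := hG.2.1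
    haveI : LocallyOfFiniteType (CoactBr.sp k A).hom := by
      haveI : IsIso v.inv.left := inferInstanceAs (IsIso ((Over.forget _).map v.inv))
      rw [← Over.w v.inv]
      infer_instance
    exact RingHom.finiteType_algebraMap.1 ((HasRingHomProperty.Spec_iff (P := @LocallyOfFiniteType)).1 this)
  have key := (isFinite_psi_iff a v u hr (AlgHom.id k B)).2 (finite_rho k A hα h1 fun m hm => by
    haveI := hm
    letI := Ideal.Quotient.field m
    exact (isFinite_psi_iff a v u hr _).1 (h (B ⧸ m) _ (Iso.refl _) _))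
  rw [CoactBr.pt_id, Category.id_comp] at key
  haveI : IsIso u.inv.left := inferInstanceAs (IsIso ((Over.forget _).map u.inv))
  have e : GIT.psi a u.inv ≫ (X ◁ u.inv) = (G ◁ u.inv) ≫ GIT.psi a (𝟙 X) := by
    apply CartesianMonoidalCategory.hom_ext <;> simp [GIT.psi]
  haveI : IsIso (G ◁ u.inv).left := inferInstanceAs (IsIso ((Over.forget _).map (G ◁ u.inv)))
  haveI : IsIso (X ◁ u.inv).left := inferInstanceAs (IsIso ((Over.forget _).map (X ◁ u.inv)))
  rw [← MorphismProperty.cancel_left_of_respectsIso @IsFinite (G ◁ u.inv).left, ← Over.comp_left, ← e, Over.comp_left,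
    MorphismProperty.cancel_right_of_respectsIso @IsFinite]
  exact key

end Main

end

end Groth.Agent.H20Prop
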